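import Cfsg.Agent.Lib.Co2Type.End.Data

/-!
The orbits of the roots of the centraliser of the third target, with their kinds and witnesses.
-/

set_option autoImplicit false
set_option maxRecDepth 20000

namespace Cfsg.Agent.Co2Type.End.OrbG

/-- Elements centralising the target. -/
def gens : List (List (Fin 15)) := [
  [2, 8, 10, 9, 14, 10, 4, 2, 10, 9, 3, 8, 2, 12, 14, 5, 10, 14, 7, 7, 14, 3, 5, 6, 10, 4, 3, 10, 6, 12, 12, 12, 14, 3, 14, 3, 6],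
  [1, 2, 9, 11, 13, 14, 9, 14, 5, 3, 2, 2, 7, 5, 13, 14, 13, 0, 11, 1, 4, 13, 2, 1, 7, 7, 4, 14],
  [3, 8, 11, 13, 13, 6, 6, 10, 8, 7, 10, 5, 11, 13, 13, 9, 7, 5, 1, 13, 0, 4, 13, 9, 0],
  [12, 13, 9, 5, 4, 10, 12, 9, 0, 10, 2, 6, 7, 3, 0, 12, 13, 4, 3, 12, 2, 12, 0, 10, 1, 7, 1],
  [1, 9, 11, 1, 10, 3, 3, 13, 7, 4, 2, 11, 0, 12, 7, 8, 11, 0, 2, 3, 4, 12, 5, 8, 11, 8, 8, 9, 12, 2, 6, 13, 12, 11],
  [5, 8, 13, 12, 14, 10, 9, 8, 11, 1, 6, 14, 14, 11, 6, 2, 7, 7, 3, 10, 14, 14, 0, 6, 8, 9, 10, 14, 8, 12, 13],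
  [1, 8, 10, 13, 12, 7, 5, 10, 3, 1, 11, 13, 13, 12, 10, 14, 11, 1, 3, 3, 14, 6, 1, 4, 8, 12, 14, 5, 4, 14, 11, 13, 0, 5],
  [6, 8, 13, 14, 0, 7, 5, 8, 6, 12, 4, 7, 14, 0, 3, 12, 13],
  [1, 2, 8, 14, 10, 6, 12, 0, 2, 8, 5, 10, 12, 14, 2, 7, 2],
  [8, 12, 13, 12, 14, 10, 9, 8, 11, 12, 13, 12, 11, 8, 9, 10, 14, 12, 13, 12, 8, 12, 13, 12, 11, 14, 7, 9, 11, 1, 12, 3, 7, 8, 8, 4, 13, 11, 8, 10, 2, 8, 8, 13, 14, 8, 4, 4, 10, 6, 13, 13, 14, 9, 3, 4, 13, 2, 8, 8, 4],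
  [1, 9, 14, 3, 6, 8, 1, 8, 0, 9, 6, 0, 8, 0, 8, 14, 6, 8, 12, 9, 1, 7, 1, 11, 2, 1, 14, 8, 7, 6, 14, 12, 14, 6, 4, 3, 7, 7, 2, 5, 6, 14],
  [0, 8, 12, 13, 12, 11, 14, 8, 5, 1, 3, 6, 9, 0, 14, 4, 2, 11, 12, 0, 0, 3, 2, 3, 0, 10, 4, 5, 11, 5, 3, 9, 7, 1, 7, 11, 9, 1, 13, 8, 9, 4, 11, 3, 11],
  [8, 12, 13, 12, 14, 10, 9, 8, 11, 12, 13, 12, 11, 8, 9, 10, 14, 12, 13, 12, 8, 8, 11, 14, 0, 6, 10, 6, 13, 8, 9, 2, 8, 3, 13, 10, 8, 10, 3, 8, 3, 13, 8, 9, 9, 13, 2, 3, 14, 11, 10, 12, 5, 14, 2, 5, 9, 5, 14],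
  [8, 13, 12, 3, 12, 3, 14, 1, 2, 14, 3, 2, 11, 1, 4, 6, 1, 6, 13, 6, 8, 12, 11],
  [0, 3, 9, 11, 13, 12, 14, 3, 6, 10, 10, 12, 0, 1, 3, 9, 10, 5, 14, 13, 5, 1, 11],
  [5, 8, 10, 9, 8, 8, 10, 13, 3, 12, 1, 7, 1, 0, 0, 12, 8, 9, 8, 14, 9, 7, 2, 3, 2, 1, 3, 2, 13, 2, 4, 14, 10, 1]]

/-- Root index; parent and generator, or kind, representative and conjugator. -/
def orb : List (Nat × Option Nat × Nat × Fin 10 × List (Fin 15)) := [
  (0, none, 0, 0, []),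
  (6, none, 1, 9, [14, 9, 10, 11, 12, 9, 10, 8, 9, 8, 3, 1]),
  (256, some 1, 0, 0, []),
  (13, some 1, 1, 0, []),
  (120, some 1, 4, 0, []),
  (787, some 1, 6, 0, []),
  (339, some 1, 9, 0, []),
  (58, some 1, 14, 0, []),
  (782, some 2, 6, 0, []),
  (109, some 2, 9, 0, []),
  (638, some 3, 6, 0, []),
  (63, some 3, 14, 0, []),
  (671, some 4, 6, 0, []),
  (657, some 5, 5, 0, []),
  (948, some 5, 9, 0, []),
  (563, some 5, 11, 0, []),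
  (705, some 5, 15, 0, []),
  (302, some 6, 3, 0, []),
  (285, some 6, 5, 0, []),
  (942, some 6, 6, 0, []),
  (737, some 6, 9, 0, []),
  (378, some 6, 10, 0, []),
  (876, some 6, 11, 0, []),
  (309, some 6, 12, 0, []),
  (594, some 6, 15, 0, []),
  (406, some 7, 3, 0, []),
  (356, some 7, 5, 0, []),
  (805, some 7, 6, 0, []),
  (779, some 7, 9, 0, []),
  (642, some 7, 11, 0, []),
  (407, some 7, 12, 0, []),
  (416, some 8, 11, 0, []),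
  (892, some 8, 14, 0, []),
  (374, some 9, 9, 0, []),
  (822, some 9, 11, 0, []),
  (816, some 11, 9, 0, []),
  (783, some 11, 11, 0, []),
  (493, some 14, 3, 0, []),
  (1000, some 14, 9, 0, []),
  (630, some 17, 6, 0, []),
  (482, some 19, 3, 0, []),
  (976, some 19, 9, 0, []),
  (386, some 27, 3, 0, []),
  (958, some 27, 9, 0, []),
  (975, some 28, 6, 0, []),
  (580, some 38, 5, 0, []),
  (752, some 38, 11, 0, []),
  (593, some 38, 15, 0, []),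
  (754, some 41, 11, 0, []),
  (157, none, 1, 8, [10, 14, 13, 9, 2]),
  (202, some 49, 0, 0, []),
  (315, some 49, 2, 0, []),
  (828, some 49, 3, 0, []),
  (281, some 49, 8, 0, []),
  (584, some 49, 9, 0, []),
  (502, some 50, 3, 0, []),
  (758, some 51, 3, 0, []),
  (435, none, 1, 3, [10, 11, 8, 9, 10, 14, 10, 11, 12, 13, 11, 10, 8, 9, 8, 8, 10, 9, 12, 9, 10, 8, 8, 9, 8, 13, 12, 11, 12, 11, 12, 13, 8, 9, 8]),
  (911, some 57, 6, 0, []),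
  (795, some 57, 9, 0, []),
  (677, some 57, 10, 0, []),
  (725, some 57, 14, 0, []),
  (914, some 58, 5, 0, []),
  (555, some 58, 9, 0, []),
  (894, some 58, 10, 0, []),
  (686, some 58, 13, 0, []),
  (803, some 58, 14, 0, []),
  (843, some 59, 5, 0, []),
  (762, some 59, 10, 0, []),
  (648, none, 3, 4, [10, 11, 8, 9, 10, 14, 10, 11, 12, 13, 11, 10, 8, 9, 8, 0]),
  (810, some 69, 5, 0, []),
  (690, some 70, 6, 0, []),
  (786, none, 3, 2, [10, 11, 8, 9, 10, 14, 10, 11, 12, 13, 11, 10, 8, 9, 8, 1]),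
  (1017, none, 2, 2, [10, 11, 8, 9, 10, 14, 11, 12, 13, 11, 10, 8, 9, 8, 0]),
  (1239, some 73, 5, 0, []),
  (1512, some 73, 9, 0, []),
  (1092, some 73, 10, 0, []),
  (1177, some 73, 13, 0, []),
  (1479, some 73, 14, 0, []),
  (2134, some 74, 6, 0, []),
  (1979, some 76, 6, 0, []),
  (1023, none, 1, 3, [8, 9, 10, 14, 11, 12, 13, 12, 11, 10, 9, 8, 8, 9, 10, 9, 11, 13, 12, 14, 8, 14, 12, 13, 11, 9, 10, 9, 8, 8, 9, 8, 13, 12, 11, 12, 11, 12, 13, 8, 9, 8, 1, 8, 9, 10, 11, 12, 13, 12, 14, 10, 9, 10, 14, 12, 13, 11, 10, 9, 8]),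
  (1344, some 81, 5, 0, []),
  (1028, some 81, 6, 0, []),
  (1423, some 81, 9, 0, []),
  (1133, some 81, 10, 0, []),
  (1186, some 81, 13, 0, []),
  (1502, some 81, 14, 0, []),
  (1884, some 82, 6, 0, []),
  (1279, some 83, 5, 0, []),
  (1320, some 83, 9, 0, []),
  (1073, some 83, 10, 0, []),
  (1110, some 83, 13, 0, []),
  (1418, some 83, 14, 0, []),
  (2044, some 85, 6, 0, []),
  (1997, some 88, 5, 0, []),
  (1775, some 88, 10, 0, []),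
  (1121, some 89, 9, 0, []),
  (1393, some 89, 14, 0, []),
  (1484, some 90, 5, 0, []),
  (1309, some 90, 10, 0, []),
  (2062, some 95, 9, 0, []),
  (1872, some 95, 14, 0, []),
  (1154, some 97, 5, 0, []),
  (1052, some 97, 10, 0, []),
  (1149, none, 1, 9, [11, 8, 9, 10, 14, 10, 11, 12, 13, 8, 9, 10, 11, 12, 9, 10, 11, 10, 9, 8, 1, 0]),
  (1213, some 105, 0, 0, []),
  (1464, some 105, 3, 0, []),
  (2161, some 105, 5, 0, []),
  (2211, some 105, 10, 0, []),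
  (1473, some 105, 11, 0, []),
  (1401, some 106, 3, 0, []),
  (1567, some 106, 11, 0, []),
  (1894, some 108, 6, 0, []),
  (1430, some 108, 9, 0, []),
  (1221, some 108, 14, 0, []),
  (1598, some 109, 6, 0, []),
  (1520, some 109, 9, 0, []),
  (1163, some 109, 14, 0, []),
  (1628, some 113, 14, 0, []),
  (1632, some 115, 3, 0, []),
  (1751, some 115, 9, 0, []),
  (1758, some 116, 14, 0, []),
  (1924, some 118, 3, 0, []),
  (1509, some 118, 9, 0, []),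
  (1987, some 119, 5, 0, []),
  (1620, some 119, 11, 0, []),
  (2051, some 119, 15, 0, []),
  (1532, some 121, 5, 0, []),
  (1196, none, 2, 2, [11, 10, 14, 11, 12, 13, 12, 11, 10, 8, 9, 8, 0]),
  (1457, some 129, 5, 0, []),
  (1893, some 129, 6, 0, []),
  (1852, some 129, 9, 0, []),
  (1617, some 129, 10, 0, []),
  (1314, some 129, 13, 0, []),
  (1642, some 129, 14, 0, []),
  (2007, some 131, 5, 0, []),
  (1909, some 131, 9, 0, []),
  (1840, some 131, 14, 0, []),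
  (2230, some 137, 5, 0, []),
  (2068, some 137, 10, 0, []),
  (1232, none, 1, 8, [3]),
  (1273, some 141, 5, 0, []),
  (1378, some 142, 6, 0, []),
  (1258, none, 2, 2, [11, 10, 14, 11, 12, 13, 12, 11, 10, 8, 9, 8, 1]),
  (1389, some 144, 5, 0, []),
  (2103, some 144, 6, 0, []),
  (1943, some 144, 9, 0, []),
  (1610, some 146, 9, 0, []),
  (2137, some 148, 5, 0, []),
  (1296, none, 1, 6, [10, 14, 13, 11, 12, 10, 11, 8, 9, 10, 14, 13, 8, 9, 10, 8, 5, 3]),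
  (1555, some 150, 5, 0, []),
  (2150, some 150, 6, 0, []),
  (1727, some 150, 9, 0, []),
  (1711, some 152, 9, 0, []),
  (2151, some 154, 5, 0, []),
  (1339, none, 2, 2, [10, 11, 8, 9, 10, 14, 10, 11, 12, 13, 11, 10, 8, 9, 8, 1])]

/-- The base: its product with the target. -/
def tauWit : Fin 10 × List (Fin 15) := (5, [10, 11, 10, 13, 9, 13, 10, 11, 10, 0])

/-- The other root: its index and its product with the target. -/
def otherWit : Nat × Fin 10 × List (Fin 15) := (786, 4, [10, 11, 8, 9, 10, 14, 10, 11, 12, 13, 11, 10, 8, 9, 8])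

end Cfsg.Agent.Co2Type.End.OrbG
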