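import Cfsg.Agent.Lib.Co2Type.End.Data

/-!
The orbits of the roots of the centraliser of the second target, with their kinds and witnesses.
-/

set_option autoImplicit false
set_option maxRecDepth 20000

namespace Cfsg.Agent.Co2Type.End.OrbQ

/-- Elements centralising the target. -/
def gens : List (List (Fin 15)) := [
  [11, 10, 9, 14, 10, 13, 8, 13, 14, 12, 7, 7, 8, 13, 9, 3, 2, 12, 8, 7, 10, 9, 12, 2, 1, 7, 4, 2, 1, 8, 12, 14, 11, 10, 0, 9, 6, 7, 10, 11, 9],
  [7, 10, 9, 14, 13, 12, 9, 0, 13, 8, 1, 0, 0, 3, 14, 3, 9, 0, 12, 7, 5, 7, 9, 13],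
  [7, 11, 10, 13, 12, 8, 3, 10, 4, 7, 0, 10, 1, 7, 10, 4, 6, 8, 14, 13, 1, 11, 4, 5, 12],
  [7, 10, 9, 8, 4, 0, 1, 9, 12, 1, 6, 1, 13, 4, 6, 1, 0, 13, 10, 0, 3, 3, 14, 14, 0],
  [7, 11, 10, 9, 14, 8, 6, 11, 6, 6, 1, 9, 10, 3, 12, 10, 4, 5, 1, 4, 5, 0, 6, 12, 14, 1, 2, 3, 11, 1, 0, 0, 7, 12, 7, 2, 10, 8, 3, 7, 8, 3, 11, 12],
  [14, 10, 13, 6, 10, 6, 1, 6, 6, 3, 0, 4, 13, 12, 9, 4, 14, 0, 3],
  [10, 9, 13, 12, 6, 13, 9, 10, 9, 1, 0, 2, 3, 7, 4, 0, 12, 9, 5, 13, 4, 6, 1],
  [10, 9, 1, 3, 9, 10, 3, 0, 9, 5, 5, 9, 7, 2],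
  [13, 13, 9, 2, 13, 6, 2, 10, 2, 4, 14, 3, 13, 9, 3, 11, 3, 2, 11, 10, 8, 3, 10, 6, 14, 7, 9, 1, 6, 0, 1, 1, 0, 8, 4, 3, 11, 11, 6],
  [7, 11, 8, 9, 6, 13, 14, 9, 7, 4, 8, 2, 14, 11, 1, 2, 3, 7, 8, 10, 13, 9, 9, 1, 4, 3, 14, 14],
  [11, 14, 8, 11, 0, 1, 4, 6, 7, 3, 0, 0, 2, 4, 5, 8, 9, 2, 1, 5, 2, 14, 7, 5],
  [11, 8, 9, 0, 14, 0, 7, 14, 5, 11, 4, 0, 0, 9, 10, 1, 7, 1],
  [14, 10, 5, 2, 1, 1, 7, 8, 5, 11, 0, 14, 14, 11, 11, 11, 2, 12, 14, 5, 5, 1, 10, 7, 14, 1, 13, 13, 6],
  [7, 10, 13, 13, 7, 9, 0, 9, 10, 6, 6, 9],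
  [7, 14, 10, 9, 9, 1, 1, 1, 10, 1, 4, 14],
  [11, 12, 11, 5, 6, 14, 11, 11, 9, 7, 7, 7, 13, 8, 1, 8, 12, 8, 0, 4, 9, 1, 7, 0, 3, 11, 1, 7, 12, 9, 10, 14, 7, 4, 14, 0]]

/-- Root index; parent and generator, or kind, representative and conjugator. -/
def orb : List (Nat × Option Nat × Nat × Fin 10 × List (Fin 15)) := [
  (0, none, 0, 0, []),
  (3, none, 1, 7, [10, 14, 11, 12, 13, 2, 1]),
  (532, some 1, 0, 0, []),
  (257, some 1, 1, 0, []),
  (265, some 1, 2, 0, []),
  (166, some 1, 3, 0, []),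
  (68, some 1, 4, 0, []),
  (46, some 1, 6, 0, []),
  (5, some 1, 7, 0, []),
  (170, some 1, 9, 0, []),
  (239, some 1, 11, 0, []),
  (432, some 1, 15, 0, []),
  (535, some 2, 0, 0, []),
  (540, some 2, 3, 0, []),
  (684, some 2, 5, 0, []),
  (720, some 2, 6, 0, []),
  (544, some 2, 9, 0, []),
  (712, some 2, 12, 0, []),
  (774, some 2, 14, 0, []),
  (702, some 2, 15, 0, []),
  (76, some 3, 3, 0, []),
  (397, some 3, 4, 0, []),
  (107, some 3, 6, 0, []),
  (32, some 3, 14, 0, []),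
  (221, some 4, 15, 0, []),
  (73, some 5, 1, 0, []),
  (28, some 5, 3, 0, []),
  (475, some 5, 7, 0, []),
  (238, some 5, 9, 0, []),
  (427, some 6, 15, 0, []),
  (299, some 9, 4, 0, []),
  (213, some 10, 4, 0, []),
  (444, some 11, 0, 0, []),
  (451, some 11, 9, 0, []),
  (233, some 11, 12, 0, []),
  (667, some 11, 15, 0, []),
  (899, some 12, 4, 0, []),
  (906, some 16, 4, 0, []),
  (921, some 17, 4, 0, []),
  (608, some 19, 4, 0, []),
  (155, some 20, 4, 0, []),
  (93, some 21, 0, 0, []),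
  (421, some 21, 3, 0, []),
  (322, some 21, 5, 0, []),
  (211, some 21, 7, 0, []),
  (755, some 32, 4, 0, []),
  (824, some 33, 4, 0, []),
  (916, some 34, 4, 0, []),
  (851, some 35, 4, 0, []),
  (606, some 36, 0, 0, []),
  (816, some 36, 15, 0, []),
  (655, some 37, 0, 0, []),
  (559, some 37, 15, 0, []),
  (731, some 38, 0, 0, []),
  (713, some 38, 15, 0, []),
  (695, some 46, 2, 0, []),
  (374, some 47, 15, 0, []),
  (9, none, 3, 7, [10, 14, 11, 12, 13, 1]),
  (641, some 57, 0, 0, []),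
  (126, some 57, 1, 0, []),
  (113, some 57, 2, 0, []),
  (119, some 57, 3, 0, []),
  (255, some 57, 4, 0, []),
  (103, some 57, 5, 0, []),
  (11, some 57, 7, 0, []),
  (266, some 57, 8, 0, []),
  (52, some 57, 9, 0, []),
  (234, some 57, 10, 0, []),
  (267, some 57, 12, 0, []),
  (722, some 57, 15, 0, []),
  (658, some 58, 0, 0, []),
  (567, some 58, 1, 0, []),
  (116, some 58, 2, 0, []),
  (468, some 58, 3, 0, []),
  (405, some 58, 4, 0, []),
  (551, some 58, 6, 0, []),
  (703, some 58, 8, 0, []),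
  (473, some 58, 9, 0, []),
  (666, some 58, 12, 0, []),
  (566, some 58, 15, 0, []),
  (781, some 59, 2, 0, []),
  (200, some 59, 4, 0, []),
  (454, some 59, 6, 0, []),
  (123, some 59, 10, 0, []),
  (453, some 59, 11, 0, []),
  (167, some 61, 1, 0, []),
  (329, some 63, 0, 0, []),
  (645, some 63, 15, 0, []),
  (396, some 65, 4, 0, []),
  (422, some 66, 4, 0, []),
  (314, some 68, 4, 0, []),
  (336, some 69, 0, 0, []),
  (418, some 69, 8, 0, []),
  (945, some 70, 4, 0, []),
  (883, some 71, 4, 0, []),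
  (306, some 72, 4, 0, []),
  (954, some 76, 4, 0, []),
  (898, some 77, 4, 0, []),
  (931, some 78, 4, 0, []),
  (926, some 79, 4, 0, []),
  (323, some 81, 2, 0, []),
  (536, some 81, 3, 0, []),
  (395, some 81, 5, 0, []),
  (811, some 91, 4, 0, []),
  (853, some 92, 4, 0, []),
  (737, some 93, 0, 0, []),
  (604, some 93, 2, 0, []),
  (579, some 93, 15, 0, []),
  (744, some 94, 0, 0, []),
  (693, some 94, 2, 0, []),
  (779, some 94, 15, 0, []),
  (753, some 96, 2, 0, []),
  (498, some 97, 2, 0, []),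
  (1022, none, 4, 0, []),
  (1060, some 113, 0, 0, []),
  (1113, some 113, 1, 0, []),
  (1058, some 113, 2, 0, []),
  (1026, some 113, 3, 0, []),
  (1982, some 113, 4, 0, []),
  (1037, some 113, 5, 0, []),
  (1035, some 113, 7, 0, []),
  (1641, some 113, 8, 0, []),
  (1088, some 113, 9, 0, []),
  (1065, some 113, 10, 0, []),
  (1105, some 113, 12, 0, []),
  (1150, some 114, 0, 0, []),
  (1942, some 114, 3, 0, []),
  (1985, some 114, 4, 0, []),
  (1161, some 115, 0, 0, []),
  (1784, some 115, 4, 0, []),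
  (1046, some 115, 8, 0, []),
  (1063, some 115, 11, 0, []),
  (1076, some 116, 0, 0, []),
  (1137, some 116, 1, 0, []),
  (1087, some 116, 3, 0, []),
  (1104, some 116, 4, 0, []),
  (1107, some 116, 5, 0, []),
  (1172, some 116, 8, 0, []),
  (1094, some 116, 9, 0, []),
  (1780, some 117, 4, 0, []),
  (1851, some 117, 8, 0, []),
  (1118, some 117, 10, 0, []),
  (2089, some 118, 0, 0, []),
  (2203, some 118, 1, 0, []),
  (1675, some 118, 5, 0, []),
  (2069, some 118, 6, 0, []),
  (1983, some 118, 8, 0, []),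
  (2228, some 118, 9, 0, []),
  (1778, some 118, 10, 0, []),
  (2064, some 118, 12, 0, []),
  (2168, some 119, 0, 0, []),
  (1726, some 119, 11, 0, []),
  (2256, some 119, 15, 0, []),
  (2242, some 121, 2, 0, []),
  (1715, some 121, 4, 0, []),
  (1217, some 122, 0, 0, []),
  (2048, some 122, 4, 0, []),
  (2213, some 123, 0, 0, []),
  (2073, some 124, 4, 0, []),
  (2112, some 125, 0, 0, []),
  (1128, some 125, 1, 0, []),
  (1083, some 125, 12, 0, []),
  (1912, some 125, 15, 0, []),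
  (1625, some 126, 4, 0, []),
  (1449, some 127, 0, 0, []),
  (1841, some 127, 1, 0, []),
  (1417, some 127, 2, 0, []),
  (1634, some 127, 3, 0, []),
  (2045, some 127, 8, 0, []),
  (1781, some 127, 9, 0, []),
  (2070, some 127, 11, 0, []),
  (1712, some 127, 12, 0, []),
  (1551, some 127, 15, 0, []),
  (1100, some 128, 1, 0, []),
  (1123, some 128, 8, 0, []),
  (1153, some 128, 10, 0, []),
  (1383, some 129, 0, 0, []),
  (1915, some 129, 1, 0, []),
  (1308, some 129, 2, 0, []),
  (1919, some 129, 3, 0, []),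
  (1785, some 129, 9, 0, []),
  (1621, some 129, 12, 0, []),
  (1612, some 129, 15, 0, []),
  (1505, some 130, 4, 0, []),
  (1809, some 131, 4, 0, []),
  (1856, some 132, 4, 0, []),
  (1733, some 133, 4, 0, []),
  (2164, some 136, 0, 0, []),
  (2013, some 136, 15, 0, []),
  (1854, some 137, 4, 0, []),
  (1653, some 138, 4, 0, []),
  (2071, some 139, 8, 0, []),
  (1747, some 139, 10, 0, []),
  (1782, some 143, 3, 0, []),
  (2046, some 144, 9, 0, []),
  (2105, some 150, 0, 0, []),
  (2212, some 150, 1, 0, []),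
  (2119, some 150, 3, 0, []),
  (1412, some 150, 4, 0, []),
  (2031, some 150, 8, 0, []),
  (2255, some 150, 11, 0, []),
  (1900, some 150, 15, 0, []),
  (2241, some 152, 1, 0, []),
  (2177, some 152, 3, 0, []),
  (1300, some 152, 4, 0, []),
  (1950, some 152, 8, 0, []),
  (2167, some 152, 11, 0, []),
  (2154, some 153, 0, 0, []),
  (1946, some 153, 3, 0, []),
  (1436, some 153, 4, 0, []),
  (2123, some 153, 8, 0, []),
  (1955, some 153, 15, 0, []),
  (1525, some 154, 0, 0, []),
  (1694, some 154, 2, 0, []),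
  (1793, some 154, 15, 0, []),
  (1501, some 156, 2, 0, []),
  (2026, some 157, 3, 0, []),
  (1577, some 157, 4, 0, []),
  (2181, some 157, 8, 0, []),
  (1478, some 158, 2, 0, []),
  (1658, some 159, 1, 0, []),
  (1870, some 159, 3, 0, []),
  (1802, some 159, 4, 0, []),
  (1860, some 159, 11, 0, []),
  (1952, some 160, 4, 0, []),
  (1648, some 161, 4, 0, []),
  (1962, some 162, 1, 0, []),
  (2094, some 162, 3, 0, []),
  (1535, some 162, 4, 0, []),
  (1737, some 162, 11, 0, []),
  (1756, some 163, 0, 0, []),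
  (1490, some 163, 2, 0, []),
  (1683, some 163, 15, 0, []),
  (1517, some 164, 0, 0, []),
  (1197, some 164, 1, 0, []),
  (1274, some 164, 8, 0, []),
  (1207, some 164, 9, 0, []),
  (1315, some 164, 12, 0, []),
  (1453, some 164, 15, 0, []),
  (1513, some 166, 0, 0, []),
  (1700, some 166, 1, 0, []),
  (1797, some 166, 3, 0, []),
  (1665, some 166, 4, 0, []),
  (1761, some 166, 5, 0, []),
  (1082, some 166, 8, 0, []),
  (1236, some 166, 9, 0, []),
  (1169, some 166, 11, 0, []),
  (1826, some 166, 12, 0, []),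
  (1321, some 166, 15, 0, []),
  (1427, some 172, 0, 0, []),
  (1168, some 172, 9, 0, []),
  (1325, some 172, 15, 0, []),
  (1729, some 173, 4, 0, []),
  (1958, some 174, 4, 0, []),
  (1230, some 176, 9, 0, []),
  (1259, some 176, 12, 0, []),
  (1485, some 178, 0, 0, []),
  (1589, some 178, 1, 0, []),
  (1492, some 178, 3, 0, []),
  (1127, some 178, 8, 0, []),
  (1885, some 178, 12, 0, []),
  (1387, some 178, 15, 0, []),
  (1140, some 182, 9, 0, []),
  (1545, some 185, 0, 0, []),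
  (2041, some 185, 2, 0, []),
  (1370, some 185, 15, 0, []),
  (1443, some 186, 0, 0, []),
  (1773, some 186, 2, 0, []),
  (1596, some 186, 15, 0, []),
  (2132, some 187, 3, 0, []),
  (1688, some 187, 4, 0, []),
  (1995, some 188, 3, 0, []),
  (1760, some 188, 4, 0, []),
  (2060, some 189, 15, 0, []),
  (2262, some 196, 4, 0, []),
  (1250, some 197, 4, 0, []),
  (2147, some 198, 0, 0, []),
  (1352, some 198, 1, 0, []),
  (1151, some 198, 2, 0, []),
  (1184, some 198, 3, 0, []),
  (1289, some 198, 6, 0, []),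
  (1586, some 198, 8, 0, []),
  (1541, some 198, 9, 0, []),
  (1262, some 198, 12, 0, []),
  (2248, some 198, 15, 0, []),
  (1446, some 199, 4, 0, []),
  (2246, some 200, 4, 0, []),
  (2188, some 202, 4, 0, []),
  (2209, some 204, 0, 0, []),
  (1215, some 204, 1, 0, []),
  (1109, some 204, 2, 0, []),
  (1301, some 204, 3, 0, []),
  (1440, some 204, 8, 0, []),
  (1365, some 204, 9, 0, []),
  (1329, some 204, 12, 0, []),
  (2139, some 204, 15, 0, []),
  (1604, some 205, 4, 0, []),
  (2221, some 206, 4, 0, []),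
  (1176, some 209, 2, 0, []),
  (1548, some 210, 4, 0, []),
  (1234, some 212, 0, 0, []),
  (1341, some 212, 15, 0, []),
  (1635, some 213, 0, 0, []),
  (1143, some 213, 1, 0, []),
  (1524, some 213, 8, 0, []),
  (1394, some 213, 15, 0, []),
  (1276, some 214, 0, 0, []),
  (1380, some 214, 15, 0, []),
  (1667, some 215, 3, 0, []),
  (1098, some 215, 8, 0, []),
  (1208, some 215, 9, 0, []),
  (1183, some 217, 2, 0, []),
  (1375, some 218, 4, 0, []),
  (1529, some 219, 3, 0, []),
  (1145, some 219, 8, 0, []),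
  (1906, some 221, 4, 0, []),
  (1372, some 222, 0, 0, []),
  (1837, some 222, 1, 0, []),
  (1520, some 222, 2, 0, []),
  (1708, some 222, 3, 0, []),
  (1607, some 222, 6, 0, []),
  (1336, some 222, 15, 0, []),
  (1970, some 225, 15, 0, []),
  (1227, some 228, 0, 0, []),
  (1488, some 228, 2, 0, []),
  (1270, some 228, 15, 0, []),
  (1460, some 231, 0, 0, []),
  (1755, some 231, 8, 0, []),
  (1558, some 231, 15, 0, []),
  (1101, some 233, 1, 0, []),
  (1240, some 233, 3, 0, []),
  (1563, some 233, 4, 0, []),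
  (1381, some 233, 9, 0, []),
  (2092, some 234, 4, 0, []),
  (2234, some 235, 4, 0, []),
  (1949, some 236, 4, 0, []),
  (2175, some 237, 4, 0, []),
  (1029, some 238, 1, 0, []),
  (1146, some 238, 3, 0, []),
  (1468, some 238, 4, 0, []),
  (1277, some 238, 9, 0, []),
  (1693, some 239, 0, 0, []),
  (1171, some 239, 1, 0, []),
  (1042, some 239, 5, 0, []),
  (1193, some 239, 9, 0, []),
  (1342, some 239, 10, 0, []),
  (1868, some 239, 15, 0, []),
  (1480, some 240, 4, 0, []),
  (1792, some 240, 13, 0, []),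
  (1053, some 241, 15, 0, []),
  (1682, some 242, 8, 0, []),
  (1502, some 244, 4, 0, []),
  (1503, some 245, 4, 0, []),
  (1673, some 246, 4, 0, []),
  (1419, some 247, 4, 0, []),
  (1576, some 248, 0, 0, []),
  (1210, some 248, 1, 0, []),
  (1117, some 248, 9, 0, []),
  (1235, some 248, 10, 0, []),
  (1820, some 248, 15, 0, []),
  (1404, some 249, 4, 0, []),
  (2122, some 250, 4, 0, []),
  (1650, some 251, 4, 0, []),
  (2030, some 254, 4, 0, []),
  (2219, some 255, 4, 0, []),
  (1181, some 256, 9, 0, []),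
  (1671, some 257, 4, 0, []),
  (1479, some 259, 4, 0, []),
  (1310, some 260, 4, 0, []),
  (1159, some 261, 9, 0, []),
  (2180, some 262, 4, 0, []),
  (1465, some 263, 0, 0, []),
  (1744, some 263, 1, 0, []),
  (1463, some 263, 8, 0, []),
  (1831, some 263, 9, 0, []),
  (1500, some 263, 12, 0, []),
  (1246, some 263, 15, 0, []),
  (1896, some 264, 0, 0, []),
  (1646, some 264, 1, 0, []),
  (1533, some 264, 8, 0, []),
  (1767, some 264, 9, 0, []),
  (1894, some 264, 12, 0, []),
  (1600, some 264, 15, 0, []),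
  (1286, some 265, 0, 0, []),
  (1430, some 265, 3, 0, []),
  (1644, some 265, 8, 0, []),
  (1598, some 265, 9, 0, []),
  (1670, some 265, 12, 0, []),
  (1349, some 265, 15, 0, []),
  (1400, some 266, 8, 0, []),
  (1833, some 267, 0, 0, []),
  (1691, some 267, 8, 0, []),
  (1705, some 267, 15, 0, []),
  (1328, some 268, 3, 0, []),
  (1561, some 268, 8, 0, []),
  (1801, some 273, 8, 0, []),
  (1836, some 274, 0, 0, []),
  (1373, some 274, 8, 0, []),
  (1707, some 274, 9, 0, []),
  (1606, some 274, 11, 0, []),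
  (2037, some 275, 0, 0, []),
  (2127, some 275, 15, 0, []),
  (1999, some 276, 1, 0, []),
  (2195, some 276, 6, 0, []),
  (2095, some 276, 8, 0, []),
  (2135, some 276, 12, 0, []),
  (1905, some 277, 4, 0, []),
  (1965, some 279, 15, 0, []),
  (1337, some 281, 4, 0, []),
  (1228, some 282, 4, 0, []),
  (1873, some 284, 1, 0, []),
  (1271, some 285, 12, 0, []),
  (1776, some 303, 4, 0, []),
  (1991, some 304, 4, 0, []),
  (1418, some 309, 4, 0, []),
  (1745, some 310, 4, 0, []),
  (1309, some 314, 4, 0, []),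
  (1954, some 318, 0, 0, []),
  (2153, some 318, 15, 0, []),
  (1687, some 322, 8, 0, []),
  (1899, some 324, 0, 0, []),
  (2104, some 324, 15, 0, []),
  (2082, some 327, 4, 0, []),
  (1727, some 333, 0, 0, []),
  (2118, some 333, 2, 0, []),
  (1852, some 333, 15, 0, []),
  (2025, some 334, 2, 0, []),
  (1945, some 335, 0, 0, []),
  (1642, some 335, 2, 0, []),
  (1943, some 336, 15, 0, []),
  (2229, some 341, 4, 0, []),
  (2224, some 346, 4, 0, []),
  (1808, some 347, 10, 0, []),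
  (2053, some 350, 4, 0, []),
  (2067, some 355, 4, 0, []),
  (2200, some 359, 4, 0, []),
  (2176, some 363, 0, 0, []),
  (1764, some 373, 4, 0, []),
  (1347, some 374, 4, 0, []),
  (1244, some 378, 4, 0, []),
  (1284, some 381, 4, 0, []),
  (1975, some 385, 4, 0, []),
  (1402, some 386, 4, 0, []),
  (2085, some 389, 4, 0, []),
  (1812, some 394, 4, 0, []),
  (1979, some 402, 4, 0, []),
  (2062, some 404, 4, 0, []),
  (1775, some 405, 4, 0, []),
  (2044, some 410, 4, 0, []),
  (1148, none, 3, 4, [11, 12, 13, 12, 11, 10, 8, 9, 8, 1]),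
  (2243, some 449, 0, 0, []),
  (2084, some 449, 1, 0, []),
  (1815, some 449, 2, 0, []),
  (1603, some 449, 4, 0, []),
  (1282, some 449, 5, 0, []),
  (1935, some 449, 11, 0, []),
  (2258, some 449, 15, 0, []),
  (1293, some 450, 4, 0, []),
  (2088, some 451, 15, 0, []),
  (1547, some 453, 0, 0, []),
  (1416, some 456, 4, 0, []),
  (1777, some 457, 0, 0, []),
  (1746, some 457, 11, 0, []),
  (1174, none, 1, 4, [11, 12, 13, 12, 11, 10, 8, 9, 8, 0]),
  (2216, some 463, 0, 0, []),
  (1811, some 463, 1, 0, []),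
  (1998, some 463, 2, 0, []),
  (1212, some 463, 3, 0, []),
  (1445, some 463, 4, 0, []),
  (2028, some 463, 9, 0, []),
  (2183, some 463, 15, 0, []),
  (1255, some 464, 4, 0, []),
  (1994, some 465, 0, 0, []),
  (1374, some 467, 4, 0, []),
  (1190, some 470, 4, 0, []),
  (1674, some 471, 0, 0, []),
  (1504, some 471, 1, 0, [])]

/-- The base: its product with the target. -/
def tauWit : Fin 10 × List (Fin 15) := (1, [7])

/-- The other root: its index and its product with the target. -/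
def otherWit : Nat × Fin 10 × List (Fin 15) := (9, 8, [10, 14, 11, 12, 13])

/-- The root with a further step: index and its product with the target. -/
def stepWit : Nat × Fin 10 × List (Fin 15) := (1022, 3, [9, 10, 14, 10, 11, 12, 13, 12, 11, 10, 8, 9, 8, 8, 9, 8, 10, 11, 12, 13, 12, 11, 10, 14, 10, 9, 11, 12, 13, 14, 10, 11, 9, 10, 14, 11, 12, 13, 11, 10, 8, 9, 8, 1])

/-- The root of the further step: index, product with the target, product with the middle element. -/
def stepOther : Nat × (Fin 10 × List (Fin 15)) × (Fin 10 × List (Fin 15)) := (1148, (2, [11, 12, 13, 12, 11, 10, 8, 9, 8]), (6, [10, 14, 11, 12, 10, 11, 9, 10, 14, 12, 13, 12, 8, 0]))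

end Cfsg.Agent.Co2Type.End.OrbQ
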