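import Cfsg.Agent.Lib.Co2Type.End.Orbit
import Cfsg.Agent.Lib.Co2Type.End.OrbQ
import Cfsg.Agent.Lib.Co2Type.End.OrbG

/-!
The ending: a subgroup containing the centraliser and the swap and isomorphic to the second Conway group is
everything, when the conjugates of the involution in the centraliser are the roots.
-/

set_option autoImplicit false
set_option maxRecDepth 100000

namespace Cfsg.Agent.Co2Type.End

open Code EndStep

variable {G : Type*} [Group G] {F : Frame C0 tau alpha pairs G} {M : Subgroup G}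

theorem tableQ : TableOK OrbQ.gens (tgtW 1) 0 [0] (some OrbQ.stepWit.1) OrbQ.orb where
  gens_comm := by decide +kernel
  index_lt := by decide +kernel
  entries := by decide +kernel
  complete := by decide +kernel

theorem tableG : TableOK OrbG.gens (tgtW 2) 2 [0, 1] none OrbG.orb where
  gens_comm := by decide +kernel
  index_lt := by decide +kernel
  entries := by decide +kernel
  complete := by decide +kernel

/-- The root `i` commutes with the word. -/
noncomputable def commC (v : List (Fin 15)) (i : ℕ) : Bool :=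
  Roots.beqC (mulC (Roots.rootC i) (cw v)) (mulC (cw v) (Roots.rootC i))

theorem base_checks :
    witOK [1] OrbQ.tauWit.1 OrbQ.tauWit.2 (mulC (cw tauW) (cw (tgtW 1))) = true ∧
    witOK [2] OrbQ.otherWit.2.1 OrbQ.otherWit.2.2 (prodC 1 (tgtW 1) OrbQ.otherWit.1) = true ∧
    commC (tgtW 1) OrbQ.otherWit.1 = true ∧ Nat.blt OrbQ.otherWit.1 2269 = true ∧
    witOK [1] OrbG.tauWit.1 OrbG.tauWit.2 (mulC (cw tauW) (cw (tgtW 2))) = true ∧
    witOK [0] OrbG.otherWit.2.1 OrbG.otherWit.2.2 (prodC 1 (tgtW 2) OrbG.otherWit.1) = true ∧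
    commC (tgtW 2) OrbG.otherWit.1 = true ∧ Nat.blt OrbG.otherWit.1 2269 = true := by
  decide +kernel

theorem step_checks :
    witOK [2] OrbQ.stepWit.2.1 OrbQ.stepWit.2.2 (prodC 1 (tgtW 1) OrbQ.stepWit.1) = true ∧
    witOK [1] OrbQ.stepOther.2.1.1 OrbQ.stepOther.2.1.2 (prodC 1 (tgtW 1) OrbQ.stepOther.1) = true ∧
    witOK [1, 2] OrbQ.stepOther.2.2.1 OrbQ.stepOther.2.2.2
      (mulC (Roots.rootC OrbQ.stepOther.1) (mulC (cw tauW) (Roots.rootC OrbQ.stepWit.1))) = true ∧
    commC (tgtW 1) OrbQ.stepWit.1 = true ∧ commC (tgtW 1) OrbQ.stepOther.1 = true ∧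
    commC tauW OrbQ.stepWit.1 = true ∧
    Roots.beqC (mulC (Roots.rootC OrbQ.stepOther.1) (Roots.rootC OrbQ.stepWit.1))
      (mulC (Roots.rootC OrbQ.stepWit.1) (Roots.rootC OrbQ.stepOther.1)) = true ∧
    Nat.blt OrbQ.stepWit.1 2269 = true ∧ Nat.blt OrbQ.stepOther.1 2269 = true := by
  decide +kernel

variable (D : Data F M)

theorem comm_of {v : List (Fin 15)} {i : ℕ} {c : C0} (hc : code c = Roots.rootC i) (h : commC v i = true) :
    c * el v = el v * c :=
  code_injective (by rw [code_mul, code_mul, hc, ← Classify.cw_code]; exact Roots.beqC_eq h)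

theorem tgt_el (a : Fin 3) : el (tgtW a) = tgt a := rfl

include D in
/-- Reading a class. -/
theorem Data.cl_tgt {a : Fin 3} {c : C0} (h : MConj F M (tgt a) c) : D.Cl (F.φ c) = D.Cl (F.φ (tgt a)) :=
  D.cl_of_mconj h

include D in
theorem Data.root_elem {c : C0} (h : MConj F M tau c) : IsRootG F (F.φ c) :=
  let ⟨m, _, e⟩ := h
  ⟨m, e⟩

include D in
theorem Data.root_of {i : ℕ} (hi : i < 2269) {c : C0} (hc : code c = Roots.rootC i) : IsRootG F (F.φ c) :=
  (D.hroot c).2 (Roots.root_iff.2 ⟨i, hi, hc⟩)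

include D in
/-- A root of the ending lies in the coordinates. -/
theorem Data.exists_code {r : G} (hr : IsRootG F r) (hrt : r * F.φ tau = F.φ tau * r) :
    ∃ c, F.φ c = r ∧ Root c := by
  have : r ∈ F.φ.range := by
    rw [F.range_eq]
    exact Subgroup.mem_centralizer_singleton_iff.2 hrt
  obtain ⟨c, rfl⟩ := this
  exact ⟨c, rfl, (D.hroot c).1 hr⟩

include D in
theorem Data.orderOf_root {c : C0} (h : MConj F M tau c) : orderOf (F.φ c) = 2 := by
  obtain ⟨m, -, e⟩ := h
  rw [← e, Involutions.Basic.orderOf_conj]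
  exact orderOf_tgt 0

/-- Two commuting codes give commuting elements. -/
theorem map_comm {x y : C0} (h : x * y = y * x) : F.φ x * F.φ y = F.φ y * F.φ x := by
  rw [← map_mul, h, map_mul]

variable [Finite G]

include D in
/-- The further step: a product with a root whose two classes differ. -/
theorem Data.step_good {x : C0} (hx : code x = Roots.rootC OrbQ.stepWit.1) :
    Subgroup.centralizer {y | y ∈ [F.φ tau * F.φ x, F.φ (tgt 1)]} ≤ M := by
  obtain ⟨h1, h2, h3, h4, h5, h6, h7, hi1, hi2⟩ := step_checks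
  rw [Nat.blt_eq] at hi1 hi2
  obtain ⟨e, he, -⟩ := Roots.exists_code _ hi2
  have hxr : Root x := Roots.root_iff.2 ⟨_, hi1, hx⟩
  have her : Root e := Roots.root_iff.2 ⟨_, hi2, he⟩
  have cxq : x * tgt 1 = tgt 1 * x := comm_of hx h4
  have ceq : e * tgt 1 = tgt 1 * e := comm_of he h5
  have cxt : x * tau = tau * x := (tau_comm x).symm
  have cex : e * x = x * e := code_injective (by rw [code_mul, code_mul, he, hx]; exact Roots.beqC_eq h7)
  have tt : tau * tau = 1 := tgt_sq 0
  have hz : F.φ tau * F.φ x = F.φ (tau * x) := (map_mul _ _ _).symm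
  have hmem : ∀ a ∈ [F.φ tau * F.φ x, F.φ (tgt 1)], a ∈ M := by
    intro a ha
    simp only [List.mem_cons, List.not_mem_nil, or_false] at ha
    rcases ha with rfl | rfl
    exacts [hz ▸ D.mem _, D.mem _]
  have hsig : ∀ c : C0, sig D.Cl [F.φ tau * F.φ x, F.φ (tgt 1)] (F.φ c) =
      [D.Cl (F.φ (c * (tau * x))), D.Cl (F.φ (c * tgt 1))] := fun c => by
    simp only [sig, List.map_cons, List.map_nil, map_mul]
  have htq : D.Cl (F.φ (tau * tgt 1)) = D.Cl (F.φ (tgt 1)) := by
    obtain ⟨a, ha, hm⟩ := wit_spec D.toInside (s := tau * tgt 1) (by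
      rw [code_mul, ← tgt_zero, ← tgt_el, ← tgt_el, ← Classify.cw_code, ← Classify.cw_code]
      exact base_checks.1)
    rw [List.mem_singleton] at ha
    subst ha
    exact D.cl_tgt hm
  have heq : D.Cl (F.φ (e * tgt 1)) = D.Cl (F.φ (tgt 1)) := by
    obtain ⟨a, ha, hm⟩ := wit_spec D.toInside (s := e * tgt 1) (by
      rw [← tgt_el, code_prod_right he]
      exact h2)
    rw [List.mem_singleton] at ha
    subst ha
    exact D.cl_tgt hm
  have hez : D.Cl (F.φ (e * (tau * x))) ≠ D.Cl (F.φ (tgt 0)) := by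
    obtain ⟨a, ha, hm⟩ := wit_spec D.toInside (s := e * (tau * x)) (by
      rw [code_mul, code_mul, he, hx, tau, ← Classify.cw_code]
      exact h3)
    rw [D.cl_tgt hm]
    intro hh
    have := D.cl_injective hh
    subst this
    simp at ha
  have hxq : D.Cl (F.φ (x * tgt 1)) = D.Cl (F.φ (tgt 2)) := by
    obtain ⟨a, ha, hm⟩ := wit_spec D.toInside (s := x * tgt 1) (by
      rw [← tgt_el, code_prod_right hx]
      exact h1)
    rw [List.mem_singleton] at ha
    subst ha
    exact D.cl_tgt hm
  have htz : D.Cl (F.φ (tau * (tau * x))) = D.Cl (F.φ (tgt 0)) := by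
    rw [← mul_assoc, tt, one_mul]
    exact D.cl_tgt (D.root hxr)
  refine EndStep.good (Cl := D.Cl) D.cl_conj D.rootClosed isRootG_conj hmem (t := F.φ tau) (e := F.φ e)
    ⟨1, by group⟩ ((D.hroot e).2 her) (D.mem _) (D.mem _) (orderOf_tgt 0) (D.orderOf_root (D.root her))
    ?_ ?_ ?_ ?_
  · intro a ha
    simp only [List.mem_cons, List.not_mem_nil, or_false] at ha
    rcases ha with rfl | rfl
    exacts [hz ▸ map_comm (tau_comm _).symm, map_comm (tau_comm _).symm]
  · intro a ha
    simp only [List.mem_cons, List.not_mem_nil, or_false] at ha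
    rcases ha with rfl | rfl
    · rw [hz]
      refine map_comm ?_
      exact ((show Commute tau e from tau_comm e).mul_left (show Commute x e from cex.symm)).eq
    · exact map_comm ceq.symm
  · rw [hsig, hsig, htz]
    exact fun h => hez (List.cons_eq_cons.1 h).1
  · intro r _ hrR hrt hrne hcom hs
    obtain ⟨c, rfl, hcr⟩ := D.exists_code hrR hrt
    have hcq : c * el (tgtW 1) = el (tgtW 1) * c := F.inj (by
      rw [map_mul, map_mul]
      exact (hcom _ (by simp [tgt_el])).symm)
    have hs2 : D.Cl (F.φ (c * tgt 1)) = D.Cl (F.φ (tgt 1)) := by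
      rw [hsig, hsig, hsig] at hs
      rcases hs with hs | hs <;> have hh := (List.cons_eq_cons.1 (List.cons_eq_cons.1 hs).2).1 <;>
        rw [hh] <;> assumption
    rcases tableQ.info D.toInside hcr hcq with rfl | h | ⟨a, ha, h⟩ | ⟨y, k, i, hi, hy, hkq, hkc⟩
    · exact absurd rfl hrne
    · exact absurd (D.cl_injective (((D.cl_tgt h).symm.trans hs2))) (by decide)
    · rw [List.mem_singleton] at ha
      subst ha
      rw [tgt_zero] at h
      rcases h with h | h
      · refine good_of_root D.rootClosed (a := F.φ (tau * c)) (Subgroup.subset_closure ?_) (D.root_elem h) (D.mem _)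
        simp [map_mul]
      · refine good_of_root D.rootClosed (a := F.φ (tau * c * tgt 1)) ?_ (D.root_elem h) (D.mem _)
        rw [map_mul, map_mul]
        exact mul_mem (Subgroup.subset_closure (by simp)) (Subgroup.subset_closure (by simp))
    · obtain rfl : OrbQ.stepWit.1 = i := Option.some.inj hi
      obtain rfl : y = x := code_injective (hy.trans hx.symm)
      exfalso
      have hc2 : MConj F M (y * tgt 1) (c * tgt 1) := D.of_isConj (isConj_iff.2 ⟨k, by
        rw [← hkc]
        calc k * (y * tgt 1) * k⁻¹ = k * y * k⁻¹ * (k * el (tgtW 1) * k⁻¹) := by rw [tgt_el]; group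
          _ = _ := by rw [hkq, mul_inv_cancel_right, tgt_el]⟩)
      exact absurd (D.cl_injective (((D.cl_of_mconj hc2).trans hxq).symm.trans hs2)) (by decide)

include D in
/-- The centraliser of the second target. -/
theorem Data.centralizer_q : Subgroup.centralizer ({F.φ (tgt 1)} : Set G) ≤ M := by
  obtain ⟨h1, h2, h3, hi, -⟩ := base_checks
  rw [Nat.blt_eq] at hi
  obtain ⟨e, he, -⟩ := Roots.exists_code _ hi
  have her : Root e := Roots.root_iff.2 ⟨_, hi, he⟩
  have ceq : e * tgt 1 = tgt 1 * e := comm_of he h3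
  have htq : D.Cl (F.φ tau * F.φ (tgt 1)) = D.Cl (F.φ (tgt 1)) := by
    obtain ⟨a, ha, hm⟩ := wit_spec D.toInside (s := tau * tgt 1) (by
      rw [code_mul, ← tgt_zero, ← tgt_el, ← tgt_el, ← Classify.cw_code, ← Classify.cw_code]
      exact h1)
    rw [List.mem_singleton] at ha
    rw [← map_mul]
    subst ha
    exact D.cl_tgt hm
  have heq : D.Cl (F.φ e * F.φ (tgt 1)) = D.Cl (F.φ (tgt 2)) := by
    obtain ⟨a, ha, hm⟩ := wit_spec D.toInside (s := e * tgt 1) (by
      rw [← tgt_el, code_prod_right he]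
      exact h2)
    rw [List.mem_singleton] at ha
    rw [← map_mul]
    subst ha
    exact D.cl_tgt hm
  have hsing : ({F.φ (tgt 1)} : Set G) = {y | y ∈ [F.φ (tgt 1)]} := by ext; simp
  rw [hsing]
  refine EndStep.good (Cl := D.Cl) D.cl_conj D.rootClosed isRootG_conj (t := F.φ tau) (e := F.φ e)
    (fun a ha => by rw [List.mem_singleton] at ha; exact ha ▸ D.mem _)
    ⟨1, by group⟩ ((D.hroot e).2 her) (D.mem _) (D.mem _) (orderOf_tgt 0) (D.orderOf_root (D.root her))
    ?_ ?_ ?_ ?_
  · intro a ha
    rw [List.mem_singleton] at ha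
    exact ha ▸ map_comm (tau_comm _).symm
  · intro a ha
    rw [List.mem_singleton] at ha
    exact ha ▸ map_comm ceq.symm
  · simp only [sig, List.map_cons, List.map_nil, htq, heq]
    exact fun h => absurd (D.cl_injective (List.cons_eq_cons.1 h).1) (by decide)
  · intro r _ hrR hrt hrne hcom hs
    obtain ⟨c, rfl, hcr⟩ := D.exists_code hrR hrt
    have hcq : c * el (tgtW 1) = el (tgtW 1) * c := F.inj (by
      rw [map_mul, map_mul]
      exact (hcom _ (by simp [tgt_el])).symm)
    rcases tableQ.info D.toInside hcr hcq with rfl | h | ⟨a, ha, h⟩ | ⟨y, k, i, hi, hy, hkq, hkc⟩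
    · exact absurd rfl hrne
    · have h0 : D.Cl (F.φ c * F.φ (tgt 1)) = D.Cl (F.φ (tgt 0)) := by
        rw [← map_mul]
        exact D.cl_tgt h
      simp only [sig, List.map_cons, List.map_nil, h0, htq, heq] at hs
      rcases hs with hs | hs <;> exact absurd (D.cl_injective (List.cons_eq_cons.1 hs).1) (by decide)
    · rw [List.mem_singleton] at ha
      subst ha
      rw [tgt_zero] at h
      rcases h with h | h
      · refine good_of_root D.rootClosed (a := F.φ (tau * c)) (Subgroup.subset_closure ?_) (D.root_elem h) (D.mem _)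
        simp [map_mul]
      · refine good_of_root D.rootClosed (a := F.φ (tau * c * tgt 1)) ?_ (D.root_elem h) (D.mem _)
        rw [map_mul, map_mul]
        exact mul_mem (Subgroup.subset_closure (by simp)) (Subgroup.subset_closure (by simp))
    · obtain rfl : OrbQ.stepWit.1 = i := Option.some.inj hi
      intro g hg
      rw [Subgroup.mem_centralizer_iff] at hg
      have hy' : (F.φ k)⁻¹ * g * F.φ k ∈ M := D.step_good hy (by
        rw [Subgroup.mem_centralizer_iff]
        intro a ha
        have ha' : F.φ k * a * (F.φ k)⁻¹ ∈ ([F.φ tau * F.φ c, F.φ (tgt 1)] : List G) := by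
          simp only [Set.mem_ofPred_eq, List.mem_cons, List.not_mem_nil, or_false] at ha ⊢
          rcases ha with rfl | rfl
          · left
            rw [← hkc, ← map_mul, ← map_inv, ← map_mul, ← map_mul, ← map_mul]
            congr 1
            calc k * (tau * y) * k⁻¹ = k * tau * y * k⁻¹ := by group
              _ = tau * k * y * k⁻¹ := by rw [(tau_comm k).symm]
              _ = tau * (k * y * k⁻¹) := by group
          · right
            rw [← tgt_el, ← map_inv, ← map_mul, ← map_mul]
            congr 1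
            rw [hkq, mul_inv_cancel_right]
        have := hg _ ha'
        calc a * ((F.φ k)⁻¹ * g * F.φ k) = (F.φ k)⁻¹ * (F.φ k * a * (F.φ k)⁻¹ * g) * F.φ k := by group
          _ = (F.φ k)⁻¹ * (g * (F.φ k * a * (F.φ k)⁻¹)) * F.φ k := by rw [this]
          _ = (F.φ k)⁻¹ * g * F.φ k * a := by group)
      have := mul_mem (mul_mem (D.mem k) hy') (inv_mem (D.mem k))
      rwa [show F.φ k * ((F.φ k)⁻¹ * g * F.φ k) * (F.φ k)⁻¹ = g by group] at this

include D in
/-- The centraliser of the third target. -/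
theorem Data.centralizer_gamma : Subgroup.centralizer ({F.φ (tgt 2)} : Set G) ≤ M := by
  obtain ⟨-, -, -, -, h1, h2, h3, hi⟩ := base_checks
  rw [Nat.blt_eq] at hi
  obtain ⟨e, he, -⟩ := Roots.exists_code _ hi
  have her : Root e := Roots.root_iff.2 ⟨_, hi, he⟩
  have ceq : e * tgt 2 = tgt 2 * e := comm_of he h3
  have htq : D.Cl (F.φ tau * F.φ (tgt 2)) = D.Cl (F.φ (tgt 1)) := by
    obtain ⟨a, ha, hm⟩ := wit_spec D.toInside (s := tau * tgt 2) (by
      rw [code_mul, ← tgt_zero, ← tgt_el, ← tgt_el, ← Classify.cw_code, ← Classify.cw_code]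
      exact h1)
    rw [List.mem_singleton] at ha
    rw [← map_mul]
    subst ha
    exact D.cl_tgt hm
  have heq : D.Cl (F.φ e * F.φ (tgt 2)) = D.Cl (F.φ (tgt 0)) := by
    obtain ⟨a, ha, hm⟩ := wit_spec D.toInside (s := e * tgt 2) (by
      rw [← tgt_el, code_prod_right he]
      exact h2)
    rw [List.mem_singleton] at ha
    rw [← map_mul]
    subst ha
    exact D.cl_tgt hm
  have hsing : ({F.φ (tgt 2)} : Set G) = {y | y ∈ [F.φ (tgt 2)]} := by ext; simp
  have good : ∀ {l : List G} {s : C0} {a : Fin 3}, a ∈ [(0 : Fin 3), 1] → MConj F M (tgt a) s →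
      F.φ s ∈ Subgroup.closure {y | y ∈ l} → Subgroup.centralizer {y | y ∈ l} ≤ M := by
    intro l s a ha h hs
    obtain ⟨m, hm, e'⟩ := h
    refine good_of_mem hs (e' ▸ centralizer_conj_le hm ?_)
    simp only [List.mem_cons, List.not_mem_nil, or_false] at ha
    rcases ha with rfl | rfl
    exacts [D.centralizer_tau, D.centralizer_q]
  rw [hsing]
  refine EndStep.good (Cl := D.Cl) D.cl_conj D.rootClosed isRootG_conj (t := F.φ tau) (e := F.φ e)
    (fun a ha => by rw [List.mem_singleton] at ha; exact ha ▸ D.mem _)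
    ⟨1, by group⟩ ((D.hroot e).2 her) (D.mem _) (D.mem _) (orderOf_tgt 0) (D.orderOf_root (D.root her))
    ?_ ?_ ?_ ?_
  · intro a ha
    rw [List.mem_singleton] at ha
    exact ha ▸ map_comm (tau_comm _).symm
  · intro a ha
    rw [List.mem_singleton] at ha
    exact ha ▸ map_comm ceq.symm
  · simp only [sig, List.map_cons, List.map_nil, htq, heq]
    exact fun h => absurd (D.cl_injective (List.cons_eq_cons.1 h).1) (by decide)
  · intro r _ hrR hrt hrne hcom hs
    obtain ⟨c, rfl, hcr⟩ := D.exists_code hrR hrt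
    have hcq : c * el (tgtW 2) = el (tgtW 2) * c := F.inj (by
      rw [map_mul, map_mul]
      exact (hcom _ (by simp [tgt_el])).symm)
    rcases tableG.info D.toInside hcr hcq with rfl | h | ⟨a, ha, h⟩ | ⟨y, k, i, hi, -, -, -⟩
    · exact absurd rfl hrne
    · have h0 : D.Cl (F.φ c * F.φ (tgt 2)) = D.Cl (F.φ (tgt 2)) := by
        rw [← map_mul]
        exact D.cl_tgt h
      simp only [sig, List.map_cons, List.map_nil, h0, htq, heq] at hs
      rcases hs with hs | hs <;> exact absurd (D.cl_injective (List.cons_eq_cons.1 hs).1) (by decide)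
    · rcases h with h | h
      · refine good ha h (Subgroup.subset_closure ?_)
        simp [map_mul]
      · refine good ha h ?_
        rw [map_mul, map_mul]
        exact mul_mem (Subgroup.subset_closure (by simp)) (Subgroup.subset_closure (by simp [tgt_el]))
    · cases hi

/-- The ending. -/
theorem eq_top (F : Frame C0 tau alpha pairs G) (M : Subgroup G)
    (hC : F.φ.range ≤ M) (hn : F.n ∈ M) (e : M ≃* ↥Cfsg.Spor.Co2)
    (hroot : ∀ c, (∃ g, g * F.φ tau * g⁻¹ = F.φ c) ↔ Root c) : M = ⊤ := by
  let D : Data F M := { le := hC, n_mem := hn, e := e, hroot := hroot }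
  refine eq_top_of_classes D.rootClosed (t := F.φ tau) (q := F.φ (tgt 1)) (γ := F.φ (tgt 2))
    ⟨1, by group⟩ isRootG_conj (D.mem _) (orderOf_tgt 0) (orderOf_tgt 1) (map_comm (tgt_comm 1))
    (map_comm (tgt_comm 2)) (fun h => ?_) D.centralizer_tau D.centralizer_q D.centralizer_gamma ?_
  · exact D.not_root (a := 1) (by decide) (isConj_iff.1 h)
  · intro i hi hi2
    rcases D.cases hi (by rw [← pow_two, ← hi2, pow_orderOf_eq_one]) with rfl | ⟨a, m, hm, h⟩
    · rw [orderOf_one] at hi2
      omega
    · refine ⟨m, hm, ?_⟩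
      match a, h with
      | 0, h => exact Or.inl h
      | 1, h => exact Or.inr (Or.inl h)
      | 2, h => exact Or.inr (Or.inr h)

end Cfsg.Agent.Co2Type.End
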