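import Cfsg.Agent.Lib.Co2Type.End.Data
import Cfsg.Agent.Lib.Co2Type.Code.Decode
import Cfsg.Agent.Lib.Co2Type.Code.Roots.Ord
import Cfsg.Agent.Lib.Co2Type.Word

/-!
Conjugacy in a subgroup `M` containing the centraliser and the swap: every representative is conjugate to
one of three targets.
-/

set_option autoImplicit false
set_option maxRecDepth 20000

namespace Cfsg.Agent.Co2Type.End

open Code

variable {G : Type*} [Group G]

/-- Conjugate in `M` through the coordinates. -/
def MConj (F : Frame C0 tau alpha pairs G) (M : Subgroup G) (c d : C0) : Prop :=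
  ∃ m ∈ M, m * F.φ c * m⁻¹ = F.φ d

/-- `M` contains the centraliser and the swap. -/
structure Inside (F : Frame C0 tau alpha pairs G) (M : Subgroup G) : Prop where
  le : F.φ.range ≤ M
  n_mem : F.n ∈ M

variable {F : Frame C0 tau alpha pairs G} {M : Subgroup G}

theorem MConj.refl (c : C0) : MConj F M c c := ⟨1, M.one_mem, by group⟩

theorem MConj.symm {c d : C0} : MConj F M c d → MConj F M d c := fun ⟨m, hm, h⟩ =>
  ⟨m⁻¹, M.inv_mem hm, by rw [← h]; group⟩

theorem MConj.trans {c d e : C0} : MConj F M c d → MConj F M d e → MConj F M c e :=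
  fun ⟨m, hm, h⟩ ⟨k, hk, h'⟩ => ⟨k * m, M.mul_mem hk hm, by rw [← h', ← h]; group⟩

theorem Inside.mem (I : Inside F M) (c : C0) : F.φ c ∈ M := I.le ⟨c, rfl⟩

theorem Inside.of_isConj (I : Inside F M) {c d : C0} (h : IsConj c d) : MConj F M c d := by
  obtain ⟨k, rfl⟩ := isConj_iff.1 h
  exact ⟨F.φ k, I.mem k, by rw [map_mul, map_mul, map_inv]⟩

theorem Inside.of_pair (I : Inside F M) {e e' : C0} (h : (e, e') ∈ pairGroup pairs) : MConj F M e e' :=
  ⟨F.n, I.n_mem, by rw [F.n_move h, mul_inv_cancel_right]⟩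

theorem Inside.tau_alpha (I : Inside F M) : MConj F M tau alpha :=
  ⟨F.n, I.n_mem, by rw [F.n_inv, F.n_tau]⟩

/-- The target. -/
noncomputable def tgt (a : Fin 3) : C0 := el (tgtW a)

/-- The representative. -/
noncomputable def rep (j : Fin 10) : C0 := el (repW j)

theorem tgt_zero : tgt 0 = tau := rfl

theorem conj_of_eqW {h v w : List (Fin 15)} (e : eqW (h ++ v ++ h.reverse) w = true) :
    IsConj (el v) (el w) :=
  isConj_iff.2 ⟨el h, by rw [el_conj, of_eqW e]⟩

/-- One link. -/
noncomputable def linkOK (p : List ℕ × Fin 10 × List (Fin 15) × Fin 10 × List (Fin 15)) : Bool :=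
  eqW (p.2.2.1 ++ repW p.2.1 ++ p.2.2.1.reverse) (srcI p.1) &&
    eqW (p.2.2.2.2 ++ repW p.2.2.2.1 ++ p.2.2.2.2.reverse) (tgtI p.1)

theorem linkW_ok : linkW.all linkOK = true := by decide +kernel

theorem Inside.link (I : Inside F M) {p : List ℕ × Fin 10 × List (Fin 15) × Fin 10 × List (Fin 15)}
    (hp : p ∈ linkW) : MConj F M (rep p.2.1) (rep p.2.2.2.1) := by
  have h := List.all_eq_true.1 linkW_ok p hp
  rw [linkOK, Bool.and_eq_true] at h
  exact ((I.of_isConj (conj_of_eqW h.1)).trans (I.of_pair (pairI_mem p.1))).trans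
    (I.of_isConj (conj_of_eqW h.2)).symm

theorem link_list : linkW.map (fun p => (p.2.1, p.2.2.2.1)) = [(7, 4), (1, 5), (5, 2), (8, 3), (3, 6), (6, 9)] := by
  decide +kernel

theorem Inside.step (I : Inside F M) {a b : Fin 10}
    (h : (a, b) ∈ linkW.map fun p => (p.2.1, p.2.2.2.1)) : MConj F M (rep a) (rep b) := by
  obtain ⟨p, hp, e⟩ := List.mem_map.1 h
  rw [Prod.mk.injEq] at e
  exact e.1 ▸ e.2 ▸ I.link hp

theorem rep_checks : eqW (repW 0) tauW = true ∧ eqW (alphaH ++ repW 4 ++ alphaH.reverse) alphaW = true ∧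
    eqW (rootAH ++ repW 7 ++ rootAH.reverse) rootAW = true ∧ eqW (repW 1) [0] = true ∧
    eqW (repW 6) gammaW = true := by
  decide +kernel

/-- Every representative is conjugate in `M` to its target. -/
theorem Inside.rep_tgt (I : Inside F M) (j : Fin 10) : MConj F M (tgt (comp j)) (rep j) := by
  obtain ⟨h0, h4, h7, h1, h6⟩ := rep_checks
  have m : ∀ {a b : Fin 10}, (a, b) ∈ [((7 : Fin 10), (4 : Fin 10)), (1, 5), (5, 2), (8, 3), (3, 6), (6, 9)] →
      MConj F M (rep a) (rep b) := fun h => I.step (link_list ▸ h)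
  have e0 : MConj F M (tgt 0) (rep 0) := by rw [tgt_zero, rep, of_eqW h0]; exact MConj.refl _
  have e1 : MConj F M (tgt 1) (rep 1) := by rw [rep, of_eqW h1]; exact MConj.refl _
  have e6 : MConj F M (tgt 2) (rep 6) := by rw [rep, of_eqW h6]; exact MConj.refl _
  have e4 : MConj F M (tgt 0) (rep 4) :=
    (tgt_zero ▸ I.tau_alpha).trans (I.of_isConj (conj_of_eqW h4)).symm
  have e5 := e1.trans (m (a := 1) (b := 5) (by decide))
  have e3 := e6.trans (m (a := 3) (b := 6) (by decide)).symm
  fin_cases j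
  · exact e0
  · exact e1
  · exact e5.trans (m (a := 5) (b := 2) (by decide))
  · exact e3
  · exact e4
  · exact e5
  · exact e6
  · exact e4.trans (m (a := 7) (b := 4) (by decide)).symm
  · exact e3.trans (m (a := 8) (b := 3) (by decide)).symm
  · exact e6.trans (m (a := 6) (b := 9) (by decide))

/-- The first root is conjugate to the involution. -/
theorem Inside.root (I : Inside F M) {c : C0} (h : Root c) : MConj F M tau c := by
  rcases h with rfl | h | h
  · exact MConj.refl _
  · have e : MConj F M (tgt 0) (rep 7) := I.rep_tgt 7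
    exact ((tgt_zero ▸ e).trans (I.of_isConj (conj_of_eqW rep_checks.2.2.1))).trans (I.of_isConj h)
  · exact I.tau_alpha.trans (I.of_isConj h)

end Cfsg.Agent.Co2Type.End
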