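import Cfsg.Agent.Lib.Co2Type.Code.Points

/-!
Representatives of the involutions of the code group and the words joining them through the swap.
-/

set_option autoImplicit false

namespace Cfsg.Agent.Co2Type.End

/-- The representatives: the central involution, the coordinate, and one for each further class. -/
def repW : Fin 10 → List (Fin 15) := ![
  [0, 7, 0, 7],
  [0],
  [9, 10, 9, 11, 14, 10, 9, 9, 11, 12, 11, 14, 9, 10, 9, 11, 14, 10, 9, 9, 11, 12, 11, 14],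
  [2, 9, 10, 9, 11, 14, 10, 9, 9, 11, 12, 11, 14, 9, 10, 9, 11, 14, 10, 9, 9, 11, 12, 11, 14],
  [1, 2, 3, 7, 9, 10, 9, 11, 14, 10, 9, 9, 11, 12, 11, 14, 9, 10, 9, 11, 14, 10, 9, 9, 11, 12, 11, 14],
  [9, 11, 10, 9, 12, 11],
  [0, 4, 9, 11, 10, 9, 12, 11],
  [9, 10, 9, 11, 14, 10, 9, 9, 11, 10, 9, 12, 11, 9, 11, 12, 11, 14, 12, 13, 12, 14, 9, 10, 9, 11, 14, 10, 9, 12, 13, 12, 14],
  [0, 1, 5, 9, 10, 9, 11, 14, 10, 9, 9, 11, 10, 9, 12, 11, 9, 11, 12, 11, 14, 12, 13, 12, 14, 9, 10, 9, 11, 14, 10, 9, 12, 13, 12, 14],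
  [9, 10, 9, 11, 14, 10, 9]]

/-- The class in the group of each representative. -/
def comp : Fin 10 → Fin 3 := ![0, 1, 1, 2, 0, 1, 2, 0, 2, 2]

/-- The third target. -/
def gammaW : List (Fin 15) := [0, 4, 9, 11, 10, 9, 12, 11]

/-- The three targets. -/
def tgtW : Fin 3 → List (Fin 15) := ![Code.tauW, [0], gammaW]

/-- Words in the pairs whose two sides are conjugate to two representatives. -/
def linkW : List (List Nat × Fin 10 × List (Fin 15) × Fin 10 × List (Fin 15)) := [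
  ([9], 7, [9, 10, 8], 4, [11, 10, 14, 11, 12, 13, 11, 10, 9, 8, 0]),
  ([2, 3], 1, [12, 13, 9, 10, 11], 5, [12, 11, 9, 10, 3, 0]),
  ([2, 8, 10], 5, [14, 11, 10, 8, 0], 2, [12, 11, 10, 5]),
  ([0, 1, 9], 8, [9, 10, 8, 5, 3], 3, [11, 10, 14, 11, 12, 13, 11, 10, 9, 8, 8, 10, 9, 12, 9, 10, 8, 8, 9, 8, 13, 12, 11, 12, 11, 12, 13, 8, 9, 8, 8, 13, 14, 10, 14, 13, 8]),
  ([2, 3, 8], 3, [11, 10, 8, 8, 13, 14, 10, 14, 13, 8, 8, 9, 8, 13, 12, 11, 12, 11, 12, 13, 8, 9, 8, 1, 8, 9, 10, 11, 12, 13, 12, 14, 10, 9, 10, 14, 12, 13, 11, 10, 9, 8], 6, [14, 12, 11, 10, 5, 3]),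
  ([0, 2, 1, 9], 6, [9, 10, 14, 13, 11, 8, 9, 10, 8, 10, 11, 10, 13, 9, 13, 10, 11, 10], 9, [11, 12, 10, 11, 9, 10, 14, 12, 13, 10, 11, 12, 11, 9, 8, 4, 3])]

/-- The conjugator from the fifth representative to the edge. -/
def alphaH : List (Fin 15) := [9, 10, 14, 12, 11, 10, 8, 9, 8, 0]

/-- The conjugator from the eighth representative to the first root. -/
def rootAH : List (Fin 15) := [9, 10, 14, 11, 12, 13, 8]

end Cfsg.Agent.Co2Type.End
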