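import Cfsg.Agent.Lib.Co2Type.End.Classify.Data
import Cfsg.Agent.Lib.Co2Type.End.Data
import Cfsg.Agent.Lib.Co2Type.Code.Decode
import Cfsg.Agent.Lib.Co2Type.Code.Roots.Ord
import Mathlib.GroupTheory.OrderOfElement

/-!
The involutions of a subgroup of order `2^18` of the code group fall under nine conjugacy classes, each with its
representative.
-/

set_option autoImplicit false
set_option maxRecDepth 100000

namespace Cfsg.Agent.Co2Type.End.Classify

open Code

/-- The images of the coordinates of the element of index `i`. -/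
noncomputable def pC (i : ℕ) : List ℕ :=
  let x := Nat.mod (Nat.shiftRight pTbl (Nat.mul 72 i)) 4722366482869645213696
  [Roots.digit x 0, Roots.digit x 1, Roots.digit x 2, Roots.digit x 3, Roots.digit x 4, Roots.digit x 5,
    Roots.digit x 6, Roots.digit x 7]

/-- The index of a right multiple. -/
noncomputable def pN (i : ℕ) (j : Fin 4) : ℕ :=
  Nat.mod (Nat.shiftRight pNxt (Nat.add (Nat.mul 36 i) (Nat.mul 9 j.val))) 512

/-- The parent. -/
noncomputable def pP (i : ℕ) : ℕ := Nat.mod (Nat.shiftRight pPar (Nat.mul 11 i)) 2048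

theorem gen_code : ∀ j : Fin 4, codeW (pGenW j) = (0, pGenC j) := by decide +kernel

theorem pC_zero : pC 0 = stdImg := by decide +kernel

theorem next_ok : ((List.range 512).all fun i => (List.finRange 4).all fun j =>
    Roots.beqL ((pGenC j).map (appL (pC i))) (pC (pN i j))) = true := by
  decide +kernel

theorem parent_ok : ((List.range 512).all fun i => Nat.beq i 0 || (Nat.blt (pP i / 4) i &&
    Nat.beq (pN (pP i / 4) ⟨pP i % 4, Nat.mod_lt _ (by norm_num)⟩) i)) = true := by
  decide +kernel

/-- The generators of the subgroup. -/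
noncomputable def pGen (j : Fin 4) : ↥W := (el (pGenW j)).right

theorem imgs_pGen (j : Fin 4) : imgs (pGen j : MulAut Q8) = pGenC j := by
  have h := code_el (pGenW j)
  rw [gen_code] at h
  exact congrArg Prod.snd h

theorem imgs_mul_gen {w : ↥W} {i : ℕ} (hi : i < 512) (h : imgs (w : MulAut Q8) = pC i) (j : Fin 4) :
    imgs ((w * pGen j : ↥W) : MulAut Q8) = pC (pN i j) := by
  rw [Subgroup.coe_mul, imgs_mul, h, imgs_pGen]
  exact Roots.beqL_eq _ _ (List.all_eq_true.1 (List.all_eq_true.1 next_ok i (List.mem_range.2 hi)) j
    (List.mem_finRange j))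

/-- The subgroup of order `512`. -/
def P : Subgroup ↥W := Subgroup.closure (Set.range pGen)

theorem exists_mem_of_index : ∀ i < 512, ∃ w ∈ P, imgs (w : MulAut Q8) = pC i := by
  intro i
  induction i using Nat.strong_induction_on with
  | _ i ih =>
    intro hi
    have h := List.all_eq_true.1 parent_ok i (List.mem_range.2 hi)
    simp only [Bool.or_eq_true, Bool.and_eq_true, Nat.beq_eq, Nat.blt_eq] at h
    rcases h with rfl | ⟨hp, he⟩
    · exact ⟨1, P.one_mem, by rw [Subgroup.coe_one, pC_zero]; exact congrArg Prod.snd code_one⟩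
    · obtain ⟨w, hw, hc⟩ := ih _ hp (hp.trans hi)
      exact ⟨_, P.mul_mem hw (Subgroup.subset_closure ⟨⟨pP i % 4, Nat.mod_lt _ (by norm_num)⟩, rfl⟩),
        (imgs_mul_gen (hp.trans hi) hc _).trans (congrArg pC he)⟩

theorem pN_lt (i : ℕ) (j : Fin 4) : pN i j < 512 := Nat.mod_lt _ (by norm_num)

theorem index_of_mem {w : ↥W} (hw : w ∈ P) : ∃ i < 512, imgs (w : MulAut Q8) = pC i := by
  haveI : Finite (MulAut Q8) := Finite.of_injective (fun e => (e : Q8 → Q8)) DFunLike.coe_injective
  have hw' : w ∈ Submonoid.closure (Set.range pGen) := by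
    rw [← Subgroup.closure_toSubmonoid_of_finite]
    exact hw
  induction hw' using Submonoid.closure_induction_right with
  | one => exact ⟨0, by norm_num, by rw [Subgroup.coe_one, pC_zero]; exact congrArg Prod.snd code_one⟩
  | mul_right x hx y hy ih =>
    obtain ⟨j, rfl⟩ := hy
    obtain ⟨i, hi, hc⟩ := ih (by
      have := Subgroup.le_closure_toSubmonoid (Set.range pGen) hx
      exact this)
    exact ⟨_, pN_lt i j, imgs_mul_gen hi hc j⟩

/-- The key of a list of images. -/
noncomputable def key (i : ℕ) : ℕ := Roots.key (0, pC i)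

theorem rank_ok : ((List.range 512).all fun i =>
    let k := Nat.mod (Nat.shiftRight pRank (Nat.mul 9 i)) 512
    Nat.beq (Nat.mod (Nat.shiftRight pOrd (Nat.mul 9 k)) 512) i) = true := by
  decide +kernel

theorem increasing_ok : ((List.range 511).all fun k =>
    Nat.blt (key (Nat.mod (Nat.shiftRight pOrd (Nat.mul 9 k)) 512))
      (key (Nat.mod (Nat.shiftRight pOrd (Nat.mul 9 (k + 1))) 512))) = true := by
  decide +kernel

theorem pC_inj {i i' : ℕ} (hi : i < 512) (hi' : i' < 512) (h : pC i = pC i') : i = i' := by
  let ord : ℕ → ℕ := fun k => Nat.mod (Nat.shiftRight pOrd (Nat.mul 9 k)) 512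
  let rk : ℕ → ℕ := fun i => Nat.mod (Nat.shiftRight pRank (Nat.mul 9 i)) 512
  have e : ∀ i < 512, ord (rk i) = i := fun i hi =>
    Nat.eq_of_beq_eq_true (List.all_eq_true.1 rank_ok i (List.mem_range.2 hi))
  have mono : ∀ b a, a < b → b < 512 → key (ord a) < key (ord b) := fun b => by
    induction b with
    | zero => intro a h _; omega
    | succ b ih =>
      intro a ha hb
      have hs := List.all_eq_true.1 increasing_ok b (List.mem_range.2 (by omega))
      rw [Nat.blt_eq] at hs
      rcases Nat.lt_or_ge a b with h | h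
      · exact (ih a h (by omega)).trans hs
      · rwa [show a = b by omega]
  have hk : key (ord (rk i)) = key (ord (rk i')) := by
    simp only [e i hi, e i' hi', key, h]
  rw [← e i hi, ← e i' hi']
  have hlt : ∀ x, rk x < 512 := fun x => Nat.mod_lt _ (by norm_num)
  rcases lt_trichotomy (rk i) (rk i') with l | l | l
  · exact absurd hk (mono _ _ l (hlt _)).ne
  · rw [l]
  · exact absurd hk.symm (mono _ _ l (hlt _)).ne

theorem card_P : Nat.card P = 512 := by
  have key : ∀ i : Fin 512, ∃ w ∈ P, imgs (w : MulAut Q8) = pC i.val := fun i => exists_mem_of_index _ i.2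
  choose f hf hfi using key
  have hb : Function.Bijective fun i : Fin 512 => (⟨f i, hf i⟩ : P) := by
    refine ⟨fun i i' e => Fin.ext (pC_inj i.2 i'.2 ?_), fun w => ?_⟩
    · have e' : f i = f i' := congrArg Subtype.val e
      rw [← hfi i, ← hfi i', e']
    · obtain ⟨i, hi, hc⟩ := index_of_mem w.2
      exact ⟨⟨i, hi⟩, Subtype.ext (Subtype.ext (imgs_injective ((hfi _).trans hc.symm)))⟩
  rw [← Nat.card_eq_of_bijective _ hb, Nat.card_fin]

/-- The subgroup of order `2^18`. -/
noncomputable def S0 : Subgroup C0 := P.comap SemidirectProduct.rightHom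

theorem card_S0 : Nat.card S0 = 2 ^ 18 := by
  let e : S0 ≃ Q8 × P :=
    { toFun := fun x => (x.1.left, ⟨x.1.right, x.2⟩)
      invFun := fun p => ⟨⟨p.1, p.2.1⟩, p.2.2⟩
      left_inv := fun x => rfl
      right_inv := fun p => rfl }
  rw [Nat.card_congr e, Nat.card_prod, card_Q8, card_P]
  norm_num

/-- The witness for one index: not an involution, or conjugate to a representative. -/
noncomputable def invOK (i : ℕ) : Bool :=
  !Roots.beqL ((pC i).map (appL (pC i))) stdImg || invW.any fun p =>
    Nat.beq p.1 i && Roots.beqC (mulC (cw p.2.2) (cw (wRepW p.2.1))) (mulC (0, pC i) (cw p.2.2))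

theorem inv_ok : (List.range 512).all invOK = true := by decide +kernel

/-- The code of the class representative. -/
noncomputable def wC (k : Fin 5) : List ℕ := (cw (wRepW k)).2

/-- One entry of a fibre. -/
noncomputable def entryOK (k : Fin 5) (n : ℕ) : Bool :=
  match (fibL k).getD n (0, none, 10) with
  | (v, none, j) => (Nat.beq v 0 && Nat.beq k.val 0) ||
      (List.finRange 10).any fun a => Nat.beq a.val j && Roots.beqC (cw (repW a)) (v, wC k)
  | (v, some p, g) => Nat.blt p n &&
      Roots.beqC (mulC (cw ((fibK k).getD g [])) ((((fibL k).getD p (0, none, 10))).1, wC k))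
        (mulC (v, wC k) (cw ((fibK k).getD g [])))

theorem entry_ok : ((List.finRange 5).all fun k => (List.range (fibL k).length).all (entryOK k)) = true := by
  decide +kernel

theorem fibre_complete : ((List.finRange 5).all fun k => (List.range 512).all fun v =>
    !Nat.beq (qmulN v (appL (wC k) v)) 0 || (fibL k).any fun p => Nat.beq p.1 v) = true := by
  decide +kernel

theorem fib_lt : ∀ k : Fin 5, ((List.range (fibL k).length).all fun p =>
    Nat.blt ((fibL k).getD p (0, none, 10)).1 512) = true := by
  decide +kernel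

theorem wRep_zero : cw (wRepW 0) = oneC := by decide +kernel

theorem cw_code (w : List (Fin 15)) : cw w = code (el w) := by rw [cw_eq, code_el]

/-- Every listed vector of a fibre gives the identity or a representative. -/
theorem fibre_conj (k : Fin 5) : ∀ n < (fibL k).length, ∀ x : C0,
    code x = (((fibL k).getD n (0, none, 10)).1, wC k) → x = 1 ∨ ∃ j, IsConj (el (repW j)) x := by
  intro n
  induction n using Nat.strong_induction_on with
  | _ n ih =>
    intro hn x hx
    have h := List.all_eq_true.1 (List.all_eq_true.1 entry_ok k (List.mem_finRange k)) n (List.mem_range.2 hn)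
    rw [entryOK] at h
    rcases he : (fibL k).getD n (0, none, 10) with ⟨v, _ | p, g⟩ <;> rw [he] at h hx
    · simp only [Bool.or_eq_true, Bool.and_eq_true, Nat.beq_eq, List.any_eq_true] at h
      rcases h with ⟨rfl, hk⟩ | ⟨a, -, -, ha⟩
      · refine Or.inl (code_injective ?_)
        rw [hx, code_one]
        obtain rfl : k = 0 := Fin.ext hk
        rw [wC, wRep_zero]
        rfl
      · refine Or.inr ⟨a, ?_⟩
        have e : el (repW a) = x := code_injective (by rw [← cw_code, hx]; exact Roots.beqC_eq ha)
        rw [e]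
    · simp only [Bool.and_eq_true, Nat.blt_eq] at h
      obtain ⟨hp, hc⟩ := h
      set w := (fibK k).getD g []
      have e := Roots.beqC_eq hc
      set u := (((fibL k).getD p (0, none, 10))).1
      have hy : code ((el w)⁻¹ * x * el w) = (u, wC k) := by
        obtain ⟨y, hy⟩ : ∃ y : C0, code y = (u, wC k) := ⟨⟨⟨u % 512, Nat.mod_lt _ (by norm_num)⟩, (el (wRepW k)).right⟩, by
          refine Prod.ext ?_ ?_
          · show u % 512 = u
            have hu := List.all_eq_true.1 (fib_lt k) p (List.mem_range.2 (hp.trans hn))
            rw [Nat.blt_eq] at hu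
            exact Nat.mod_eq_of_lt hu
          · show imgs _ = wC k
            rw [wC, cw_code]
            rfl⟩
        rw [← hy]
        refine congrArg code ?_
        have : el w * y = x * el w := code_injective (by rw [code_mul, code_mul, ← cw_code, hy, hx]; exact e)
        rw [mul_assoc, ← this, inv_mul_cancel_left]
      have hcj : IsConj ((el w)⁻¹ * x * el w) x := isConj_iff.2 ⟨el w, by group⟩
      rcases ih p hp (hp.trans hn) _ hy with h1 | ⟨j, hj⟩
      · refine Or.inl ?_
        rw [h1] at hcj
        exact (isConj_one_right.1 hcj)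
      · exact Or.inr ⟨j, hj.trans hcj⟩

/-- An element of square one in the subgroup is trivial or conjugate to a representative. -/
theorem cases_of_mem {x : C0} (hx : x ∈ S0) (hx2 : x * x = 1) : x = 1 ∨ ∃ j, IsConj (el (repW j)) x := by
  obtain ⟨i, hi, hc⟩ := index_of_mem (w := x.right) hx
  have h := List.all_eq_true.1 inv_ok i (List.mem_range.2 hi)
  have hsq : Roots.beqL ((pC i).map (appL (pC i))) stdImg = true := by
    have : code (x * x) = oneC := by rw [hx2, code_one]
    have h2 := congrArg Prod.snd (code_mul x x ▸ this)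
    simp only [mulC, code, hc] at h2
    rw [h2]
    decide +kernel
  simp only [invOK, hsq, Bool.not_true, Bool.false_or, List.any_eq_true, Bool.and_eq_true, Nat.beq_eq] at h
  obtain ⟨⟨i', k, H⟩, -, -, hH⟩ := h
  have e := Roots.beqC_eq hH
  set y := (el H)⁻¹ * x * el H
  have e' : el H * el (wRepW k) = SemidirectProduct.inr x.right * el H := code_injective (by
    rw [code_mul, code_mul, ← cw_code, ← cw_code, show code (SemidirectProduct.inr x.right : C0) = (0, pC i) from
      Prod.ext rfl hc]
    exact e)
  have hy : (code y).2 = wC k := by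
    have : y.right = (el (wRepW k)).right := by
      have h3 := congrArg SemidirectProduct.right e'
      simp only [SemidirectProduct.mul_right, SemidirectProduct.right_inr] at h3
      simp only [y, SemidirectProduct.mul_right, SemidirectProduct.inv_right, mul_assoc, ← h3]
      rw [inv_mul_cancel_left]
    show imgs _ = _
    rw [this, wC, cw_code]
    rfl
  have hy2 : y * y = 1 := by
    rw [show y * y = (el H)⁻¹ * (x * x) * el H by simp only [y]; group, hx2, mul_one, inv_mul_cancel]
  have hv : qmulN (code y).1 (appL (wC k) (code y).1) = 0 := by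
    have h4 : (code (y * y)).1 = 0 := by rw [hy2, code_one]; rfl
    rw [code_mul] at h4
    rw [← hy]
    exact h4
  have hf := List.all_eq_true.1 (List.all_eq_true.1 fibre_complete k (List.mem_finRange k)) (code y).1
    (List.mem_range.2 y.left.lt)
  simp only [hv, Bool.or_eq_true, List.any_eq_true, Nat.beq_eq] at hf
  rcases hf with hf | ⟨p, hp, hp'⟩
  · exact absurd hf (by decide +kernel)
  obtain ⟨n, hn, rfl⟩ := List.getElem_of_mem hp
  have hcj : IsConj y x := isConj_iff.2 ⟨el H, by simp only [y]; group⟩
  rcases fibre_conj k n hn y (Prod.ext (by rw [List.getD_eq_getElem _ _ hn, hp']) hy) with h1 | ⟨j, hj⟩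
  · refine Or.inl ?_
    rw [h1] at hcj
    exact isConj_one_right.1 hcj
  · exact Or.inr ⟨j, hj.trans hcj⟩

end Cfsg.Agent.Co2Type.End.Classify
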