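import Cfsg.Agent.Lib.Co2Type.End.Setting

/-!
The roots of the centraliser of a target, orbit by orbit: a property invariant under conjugation holds of
all of them once it holds at the starts.
-/

set_option autoImplicit false
set_option maxRecDepth 100000

namespace Cfsg.Agent.Co2Type.End

open Code

/-- An entry: root index; parent and generator, or kind, representative and conjugator. -/
abbrev Entry := ℕ × Option ℕ × ℕ × Fin 10 × List (Fin 15)

/-- The code of a product. -/
noncomputable def prodC (kind : ℕ) (v : List (Fin 15)) (i : ℕ) : ℕ × List ℕ :=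
  bif Nat.beq kind 1 then mulC (Roots.rootC i) (cw v)
  else bif Nat.beq kind 2 then mulC (cw tauW) (Roots.rootC i)
  else mulC (mulC (cw tauW) (Roots.rootC i)) (cw v)

/-- A witness: the code is conjugate to a representative with target in a list. -/
noncomputable def witOK (ok : List (Fin 3)) (j : Fin 10) (h : List (Fin 15)) (s : ℕ × List ℕ) : Bool :=
  (ok.any fun a => Nat.beq (comp j).val a.val) && Roots.beqC (mulC (cw h) (cw (repW j))) (mulC s (cw h))

theorem wit_spec {G : Type*} [Group G] {F : Frame C0 tau alpha pairs G} {M : Subgroup G} (I : Inside F M)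
    {ok : List (Fin 3)} {j : Fin 10} {h : List (Fin 15)} {s : C0} (e : witOK ok j h (code s) = true) :
    ∃ a ∈ ok, MConj F M (tgt a) s := by
  simp only [witOK, Bool.and_eq_true, List.any_eq_true, Nat.beq_eq] at e
  obtain ⟨⟨a, ha, hj⟩, e'⟩ := e
  refine ⟨a, ha, ?_⟩
  have h1 : el h * el (repW j) = s * el h := code_injective (by
    rw [code_mul, code_mul, ← Classify.cw_code, ← Classify.cw_code]
    exact Roots.beqC_eq e')
  rw [← Fin.ext hj]
  exact (I.rep_tgt j).trans (I.of_isConj (isConj_iff.2 ⟨el h, by rw [rep, h1, mul_inv_cancel_right]⟩))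

theorem code_prod_right {c : C0} {i : ℕ} (hc : code c = Roots.rootC i) (v : List (Fin 15)) :
    code (c * el v) = prodC 1 v i := by
  rw [code_mul, hc, ← Classify.cw_code]
  rfl

theorem code_prod_left {c : C0} {i : ℕ} (hc : code c = Roots.rootC i) (v : List (Fin 15)) :
    code (tau * c) = prodC 2 v i := by
  rw [code_mul, hc, tau, ← Classify.cw_code]
  rfl

theorem code_prod_both {c : C0} {i : ℕ} (hc : code c = Roots.rootC i) (v : List (Fin 15)) :
    code (tau * c * el v) = prodC 3 v i := by
  rw [code_mul, code_mul, hc, tau, ← Classify.cw_code, ← Classify.cw_code]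
  rfl

/-- One entry of an orbit table is correct. -/
noncomputable def entryOK (gens : List (List (Fin 15))) (v : List (Fin 15)) (bad : Fin 3) (ok : List (Fin 3))
    (step : Option ℕ) (L : List Entry) (n : ℕ) : Bool :=
  match L.getD n (0, none, 9, 0, []) with
  | (i, none, k, j, h) => Nat.blt i 2269 && ((Nat.beq k 0 && Nat.beq i 0) ||
      (Nat.beq k 4 && (step == some i)) || (Nat.beq k 1 && witOK [bad] j h (prodC 1 v i)) ||
      ((Nat.beq k 2 || Nat.beq k 3) && witOK ok j h (prodC k v i)))
  | (i, some p, g, _, _) => Nat.blt p n && Nat.blt g gens.length &&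
      Roots.beqC (mulC (cw (gens.getD g [])) (Roots.rootC (L.getD p (0, none, 9, 0, [])).1))
        (mulC (Roots.rootC i) (cw (gens.getD g [])))

/-- The table lists every index commuting with the target. -/
noncomputable def completeAt (v : List (Fin 15)) (L : List Entry) (i : ℕ) : Bool :=
  !Roots.beqC (mulC (Roots.rootC i) (cw v)) (mulC (cw v) (Roots.rootC i)) || L.any fun p => Nat.beq p.1 i

/-- All checks of a table. -/
structure TableOK (gens : List (List (Fin 15))) (v : List (Fin 15)) (bad : Fin 3) (ok : List (Fin 3))
    (step : Option ℕ) (L : List Entry) : Prop where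
  gens_comm : (gens.all fun g => commW g v) = true
  index_lt : (L.all fun p => Nat.blt p.1 2269) = true
  entries : ((List.range L.length).all (entryOK gens v bad ok step L)) = true
  complete : ((List.range 2269).all (completeAt v L)) = true

theorem beqL_refl : ∀ l : List ℕ, Roots.beqL l l = true
  | [] => rfl
  | a :: l => by
    show (Nat.beq a a && Roots.beqL l l) = true
    rw [Nat.beq_refl, beqL_refl l]
    rfl

theorem beqC_refl (a : ℕ × List ℕ) : Roots.beqC a a = true := by
  rw [Roots.beqC, Nat.beq_refl, beqL_refl]
  rfl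

variable {G : Type*} [Group G]

/-- What is known of a root of the centraliser of the target. -/
def Info (F : Frame C0 tau alpha pairs G) (M : Subgroup G) (v : List (Fin 15)) (bad : Fin 3)
    (ok : List (Fin 3)) (step : Option ℕ) (c : C0) : Prop :=
  c = tau ∨ MConj F M (tgt bad) (c * el v) ∨
    (∃ a ∈ ok, MConj F M (tgt a) (tau * c) ∨ MConj F M (tgt a) (tau * c * el v)) ∨
    ∃ x k : C0, ∃ i, step = some i ∧ code x = Roots.rootC i ∧ k * el v = el v * k ∧ k * x * k⁻¹ = c

theorem tau_comm (c : C0) : tau * c = c * tau := by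
  have h : ∀ j : Fin 4, commW tauW (Roots.tokW j) = true := by decide +kernel
  have hc : c ∈ Subgroup.closure (Set.range Roots.tok) := Roots.closure_tok ▸ Subgroup.mem_top c
  induction hc using Subgroup.closure_induction with
  | mem x hx =>
    obtain ⟨j, rfl⟩ := hx
    exact of_commW (h j)
  | one => simp
  | mul x y _ _ hx hy => exact (Commute.mul_right (show Commute tau x from hx) hy).eq
  | inv x _ hx => exact (Commute.inv_right (show Commute tau x from hx)).eq

theorem Info.conj {F : Frame C0 tau alpha pairs G} {M : Subgroup G} (I : Inside F M) {v : List (Fin 15)}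
    {bad : Fin 3} {ok : List (Fin 3)} {step : Option ℕ} {k : C0} (hk : k * el v = el v * k) {c : C0}
    (h : Info F M v bad ok step c) : Info F M v bad ok step (k * c * k⁻¹) := by
  have hkt : k * tau = tau * k := (tau_comm k).symm
  have hv : k * el v * k⁻¹ = el v := by rw [hk, mul_inv_cancel_right]
  have ht : k * tau * k⁻¹ = tau := by rw [hkt, mul_inv_cancel_right]
  have cj : ∀ x : C0, MConj F M x (k * x * k⁻¹) := fun x => I.of_isConj (isConj_iff.2 ⟨k, rfl⟩)
  have p1 : k * (c * el v) * k⁻¹ = k * c * k⁻¹ * el v := by
    calc k * (c * el v) * k⁻¹ = k * c * k⁻¹ * (k * el v * k⁻¹) := by group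
      _ = _ := by rw [hv]
  have p2 : k * (tau * c) * k⁻¹ = tau * (k * c * k⁻¹) := by
    calc k * (tau * c) * k⁻¹ = k * tau * k⁻¹ * (k * c * k⁻¹) := by group
      _ = _ := by rw [ht]
  have p3 : k * (tau * c * el v) * k⁻¹ = tau * (k * c * k⁻¹) * el v := by
    calc k * (tau * c * el v) * k⁻¹ = k * (tau * c) * k⁻¹ * (k * el v * k⁻¹) := by group
      _ = _ := by rw [p2, hv]
  rcases h with rfl | h | ⟨a, ha, h⟩ | ⟨x, k', i, hi, hx, hk', rfl⟩
  · exact Or.inl ht
  · exact Or.inr (Or.inl (p1 ▸ h.trans (cj _)))
  · refine Or.inr (Or.inr (Or.inl ⟨a, ha, ?_⟩))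
    rcases h with h | h
    exacts [Or.inl (p2 ▸ h.trans (cj _)), Or.inr (p3 ▸ h.trans (cj _))]
  · refine Or.inr (Or.inr (Or.inr ⟨x, k * k', i, hi, hx, ?_, by group⟩))
    exact ((show Commute k (el v) from hk).mul_left hk').eq

/-- Every root commuting with the target is described. -/
theorem TableOK.info {gens : List (List (Fin 15))} {v : List (Fin 15)} {bad : Fin 3} {ok : List (Fin 3)}
    {step : Option ℕ} {L : List Entry} (T : TableOK gens v bad ok step L) {F : Frame C0 tau alpha pairs G}
    {M : Subgroup G} (I : Inside F M) {c : C0} (hc : Root c) (hcv : c * el v = el v * c) :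
    Info F M v bad ok step c := by
  have main : ∀ n < L.length, ∀ x : C0, code x = Roots.rootC (L.getD n (0, none, 9, 0, [])).1 →
      Info F M v bad ok step x := by
    intro n
    induction n using Nat.strong_induction_on with
    | _ n ih =>
      intro hn x hx
      have h := List.all_eq_true.1 T.entries n (List.mem_range.2 hn)
      rw [entryOK] at h
      rcases he : L.getD n (0, none, 9, 0, []) with ⟨i, _ | p, g, j, w⟩ <;> rw [he] at h hx
      · simp only [Bool.and_eq_true, Bool.or_eq_true, Nat.beq_eq, beq_iff_eq] at h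
        rcases h.2 with ((⟨-, rfl⟩ | ⟨-, hs⟩) | ⟨-, hw⟩) | ⟨hk, hw⟩
        · exact Or.inl (code_injective (hx.trans (Roots.start.1.trans (code_el _).symm)))
        · exact Or.inr (Or.inr (Or.inr ⟨x, 1, i, hs, hx, by group, by group⟩))
        · obtain ⟨a, ha, hm⟩ := wit_spec I (s := x * el v) (by rwa [code_prod_right hx])
          rw [List.mem_singleton] at ha
          exact Or.inr (Or.inl (ha ▸ hm))
        · rcases hk with rfl | rfl
          · obtain ⟨a, ha, hm⟩ := wit_spec I (s := tau * x) (by rwa [code_prod_left hx v])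
            exact Or.inr (Or.inr (Or.inl ⟨a, ha, Or.inl hm⟩))
          · obtain ⟨a, ha, hm⟩ := wit_spec I (s := tau * x * el v) (by rwa [code_prod_both hx])
            exact Or.inr (Or.inr (Or.inl ⟨a, ha, Or.inr hm⟩))
      · simp only [Bool.and_eq_true, Nat.blt_eq] at h
        obtain ⟨⟨hp, hg⟩, hb⟩ := h
        set w' := gens.getD g []
        set ip := (L.getD p (0, none, 9, 0, [])).1
        have hip : ip < 2269 := by
          have := List.all_eq_true.1 T.index_lt (L.getD p (0, none, 9, 0, [])) (by
            rw [List.getD_eq_getElem _ _ (hp.trans hn)]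
            exact List.getElem_mem _)
          rwa [Nat.blt_eq] at this
        obtain ⟨y, hy, -⟩ := Roots.exists_code ip hip
        have e : el w' * y = x * el w' := code_injective (by
          rw [code_mul, code_mul, hy, hx, ← Classify.cw_code]
          exact Roots.beqC_eq hb)
        have hw : el w' * el v = el v * el w' :=
          of_commW (List.all_eq_true.1 T.gens_comm w' (by
            rw [show w' = gens[g] from List.getD_eq_getElem _ _ hg]
            exact List.getElem_mem _))
        rw [show x = el w' * y * (el w')⁻¹ by rw [e, mul_inv_cancel_right]]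
        exact (ih p hp (hp.trans hn) y hy).conj I hw
  obtain ⟨i, hi, hci⟩ := Roots.root_iff.1 hc
  have h := List.all_eq_true.1 T.complete i (List.mem_range.2 hi)
  have hb : Roots.beqC (mulC (Roots.rootC i) (cw v)) (mulC (cw v) (Roots.rootC i)) = true := by
    have := congrArg code hcv
    rw [code_mul, code_mul, hci, ← Classify.cw_code] at this
    rw [this]
    exact beqC_refl _
  simp only [completeAt, hb, Bool.not_true, Bool.false_or, List.any_eq_true, Nat.beq_eq] at h
  obtain ⟨p, hp, rfl⟩ := h
  obtain ⟨n, hn, rfl⟩ := List.getElem_of_mem hp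
  exact main n hn c (by rw [List.getD_eq_getElem _ _ hn, hci])

end Cfsg.Agent.Co2Type.End
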