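import Cfsg.Agent.Lib.Co2Type.End.Base
import Cfsg.Agent.Lib.Co2Type.End.Classify
import Cfsg.Agent.Lib.Co2Type.Trace
import Cfsg.Agent.Lib.Co2Type.EndGood
import Cfsg.Agent.Lib.LeechAut.Conway23
import Cfsg.Agent.Lib.PcMult.Leech.Stab

/-!
The setting of the ending: the three classes of involutions of `M`, their class function and the control of the
fusion of the roots.
-/

set_option autoImplicit false
set_option maxRecDepth 20000

namespace Cfsg.Agent.Co2Type.End

open Code EndStep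

theorem card_Co2 : Nat.card ↥Cfsg.Spor.Co2 = 42305421312000 := by
  show Nat.card (Cfsg.Agent.Lib.PcMult.Leech.stabP Cfsg.Spor.leechU) = _
  rw [Nat.card_congr (Cfsg.Agent.Lib.PcMult.Leech.stabEquiv Cfsg.Spor.leechU).toEquiv,
    LeechAut.Conway23.card_stab32 (v := Cfsg.Spor.leechU)
      (show Cfsg.sqNorm Cfsg.Spor.vecU = 32 by decide +kernel)]

variable {G : Type*} [Group G]

/-- The hypotheses of the ending. -/
structure Data (F : Frame C0 tau alpha pairs G) (M : Subgroup G) : Type _ extends Inside F M where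
  /-- the identification of the subgroup -/
  e : M ≃* ↥Cfsg.Spor.Co2
  hroot : ∀ c, (∃ g, g * F.φ tau * g⁻¹ = F.φ c) ↔ Root c

/-- Being a conjugate of the involution. -/
def IsRootG (F : Frame C0 tau alpha pairs G) (r : G) : Prop := ∃ g, g * F.φ tau * g⁻¹ = r

variable {F : Frame C0 tau alpha pairs G} {M : Subgroup G} (D : Data F M)

/-- The class function: the trace through the identification. -/
noncomputable def Data.Cl (x : G) : ZMod 13 := by
  classical exact if h : x ∈ M then Trace.tr (D.e ⟨x, h⟩) else 0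

theorem Data.cl_eq {x : G} (h : x ∈ M) : D.Cl x = Trace.tr (D.e ⟨x, h⟩) := by
  unfold Data.Cl
  exact dif_pos h

theorem Data.cl_conj (m : G) (hm : m ∈ M) (x : G) (hx : x ∈ M) : D.Cl (m * x * m⁻¹) = D.Cl x := by
  rw [D.cl_eq hx, D.cl_eq (mul_mem (mul_mem hm hx) (inv_mem hm))]
  have : (⟨m * x * m⁻¹, mul_mem (mul_mem hm hx) (inv_mem hm)⟩ : M) = ⟨m, hm⟩ * ⟨x, hx⟩ * ⟨m, hm⟩⁻¹ := rfl
  rw [this, map_mul, map_mul, map_inv, Trace.tr_conj]

theorem Data.cl_of_mconj {c d : C0} (h : MConj F M c d) : D.Cl (F.φ d) = D.Cl (F.φ c) := by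
  obtain ⟨m, hm, e⟩ := h
  rw [← e, D.cl_conj m hm _ (D.mem c)]

include D in
/-- A square-one element of `M` is trivial or conjugate in `M` to a target. -/
theorem Data.cases {i : G} (hi : i ∈ M) (hi2 : i * i = 1) :
    i = 1 ∨ ∃ a, ∃ m ∈ M, m * F.φ (tgt a) * m⁻¹ = i := by
  haveI : Fact (Nat.Prime 2) := ⟨Nat.prime_two⟩
  haveI : Finite M := Nat.finite_of_card_ne_zero (by rw [Nat.card_congr D.e.toEquiv, card_Co2]; norm_num)
  let ψ : C0 →* M := F.φ.codRestrict M D.mem
  have hψ : Function.Injective ψ := fun a b h => F.inj (congrArg Subtype.val h)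
  have hc : Nat.card (Classify.S0.map ψ) = 2 ^ (Nat.card M).factorization 2 := by
    rw [← Nat.card_congr (Classify.S0.equivMapOfInjective ψ hψ).toEquiv, Classify.card_S0,
      Nat.card_congr D.e.toEquiv, card_Co2,
      show (42305421312000 : ℕ) = 2 ^ 18 * 161382375 by norm_num,
      Nat.factorization_mul (by norm_num) (by norm_num), Finsupp.add_apply, Nat.Prime.factorization_pow Nat.prime_two,
      Finsupp.single_eq_same, Nat.factorization_eq_zero_of_not_dvd (by norm_num : ¬ 2 ∣ 161382375), add_zero]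
  let S : Sylow 2 M := Sylow.ofCard _ hc
  set j : M := ⟨i, hi⟩
  have hj : j * j = 1 := Subtype.ext hi2
  have hp : IsPGroup 2 (Subgroup.zpowers j) := by
    rintro ⟨y, z, rfl⟩
    refine ⟨1, Subtype.ext ?_⟩
    show (j ^ z) ^ (2 ^ 1) = 1
    rw [← zpow_natCast, ← zpow_mul, mul_comm, zpow_mul]
    simp [pow_two, hj]
  obtain ⟨T, hT⟩ := hp.exists_le_sylow
  obtain ⟨g, hg⟩ := MulAction.exists_smul_eq M T S
  have hmem : g * j * g⁻¹ ∈ Classify.S0.map ψ := by
    have h1 : MulAut.conj g j ∈ ((g • T : Sylow 2 M) : Subgroup M) := by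
      rw [Sylow.coe_subgroup_smul]
      exact Subgroup.smul_mem_pointwise_smul _ _ _ (hT (Subgroup.mem_zpowers j))
    rw [hg] at h1
    exact h1
  obtain ⟨x, hx, hxj⟩ := hmem
  have hv : F.φ x = g.1 * i * g.1⁻¹ := congrArg Subtype.val hxj
  have hx2 : x * x = 1 := hψ (by
    rw [map_mul, map_one, hxj, show g * j * g⁻¹ * (g * j * g⁻¹) = g * (j * j) * g⁻¹ by group, hj]
    group)
  rcases Classify.cases_of_mem hx hx2 with rfl | ⟨k, hk⟩
  · refine Or.inl ?_
    rw [map_one] at hv
    calc i = g.1⁻¹ * (g.1 * i * g.1⁻¹) * g.1 := by group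
      _ = 1 := by rw [← hv]; group
  · obtain ⟨m, hm, e⟩ := (D.rep_tgt k).trans (D.of_isConj hk)
    refine Or.inr ⟨comp k, g.1⁻¹ * m, mul_mem (inv_mem g.2) hm, ?_⟩
    calc g.1⁻¹ * m * F.φ (tgt (comp k)) * (g.1⁻¹ * m)⁻¹
        = g.1⁻¹ * (m * F.φ (tgt (comp k)) * m⁻¹) * g.1 := by group
      _ = i := by rw [e, hv]; group

theorem injective_three {α : Type*} (f : Fin 3 → α) (h01 : f 0 ≠ f 1) (h02 : f 0 ≠ f 2) (h12 : f 1 ≠ f 2) :
    Function.Injective f := by
  intro a b h
  fin_cases a <;> fin_cases b <;>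
    first
    | rfl
    | exact absurd h h01
    | exact absurd h.symm h01
    | exact absurd h h02
    | exact absurd h.symm h02
    | exact absurd h h12
    | exact absurd h.symm h12

include D in
/-- The three targets have different traces. -/
theorem Data.cl_injective : Function.Injective fun a => D.Cl (F.φ (tgt a)) := by
  have hcov : ∀ i : ↥Cfsg.Spor.Co2, orderOf i = 2 → IsConj (D.e ⟨_, D.mem (tgt 0)⟩) i ∨
      IsConj (D.e ⟨_, D.mem (tgt 1)⟩) i ∨ IsConj (D.e ⟨_, D.mem (tgt 2)⟩) i := fun i hi => by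
    have h2 : (D.e.symm i : G) * (D.e.symm i : G) = 1 := by
      rw [← Subgroup.coe_mul, ← map_mul, ← pow_two, ← hi, pow_orderOf_eq_one, map_one]
      rfl
    rcases D.cases (D.e.symm i).2 h2 with h | ⟨a, m, hm, h⟩
    · exfalso
      have : i = 1 := by rw [← D.e.apply_symm_apply i, show D.e.symm i = 1 from Subtype.ext h, map_one]
      rw [this, orderOf_one] at hi
      omega
    · have hc : IsConj (D.e ⟨_, D.mem (tgt a)⟩) i := by
        refine isConj_iff.2 ⟨D.e ⟨m, hm⟩, ?_⟩
        rw [← map_inv, ← map_mul, ← map_mul, ← D.e.apply_symm_apply i]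
        exact congrArg D.e (Subtype.ext h)
      match a, hc with
      | 0, hc => exact Or.inl hc
      | 1, hc => exact Or.inr (Or.inl hc)
      | 2, hc => exact Or.inr (Or.inr hc)
  obtain ⟨h01, h02, h12⟩ := Trace.pairwise_of_cover hcov
  rw [← D.cl_eq (D.mem _), ← D.cl_eq (D.mem _)] at h01 h02 h12
  exact injective_three (fun a => D.Cl (F.φ (tgt a))) h01 h02 h12

include D in
/-- A root of `C` is conjugate in `M` to the involution, no other target is a root. -/
theorem Data.not_root {a : Fin 3} (ha : a ≠ 0) : ¬ IsRootG F (F.φ (tgt a)) := fun h =>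
  ha (D.cl_injective (by
    have h1 := D.cl_of_mconj (D.root ((D.hroot (tgt a)).1 h))
    exact h1))

include D in
theorem Data.centralizer_tau : Subgroup.centralizer ({F.φ tau} : Set G) ≤ M := by
  rw [← F.range_eq]
  exact D.le

theorem tgt_checks : ∀ a : Fin 3, eqW (tgtW a ++ tgtW a) [] = true ∧ eqW (tgtW a) [] = false ∧
    commW (tgtW a) tauW = true := by
  decide +kernel

theorem tgt_sq (a : Fin 3) : tgt a * tgt a = 1 := by
  rw [tgt, ← el_append, of_eqW (tgt_checks a).1, el_nil]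

theorem tgt_ne (a : Fin 3) : tgt a ≠ 1 := fun h => by
  have := eqW_iff.2 (show el (tgtW a) = el [] from h.trans el_nil.symm)
  rw [(tgt_checks a).2.1] at this
  exact Bool.false_ne_true this

theorem tgt_comm (a : Fin 3) : tgt a * tau = tau * tgt a := of_commW (tgt_checks a).2.2

theorem orderOf_tgt (a : Fin 3) : orderOf (F.φ (tgt a)) = 2 := by
  rw [orderOf_eq_prime_iff]
  exact ⟨by rw [pow_two, ← map_mul, tgt_sq, map_one], fun h => tgt_ne a (F.inj (h.trans (map_one _).symm))⟩

include D in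
/-- `M` controls the fusion of the involution. -/
theorem Data.fusion (g : G) (hg : g * F.φ tau * g⁻¹ ∈ M) :
    ∃ m ∈ M, m * F.φ tau * m⁻¹ = g * F.φ tau * g⁻¹ := by
  have h2 : F.φ tau * F.φ tau = 1 := by
    rw [← map_mul, show tau * tau = 1 from tgt_sq 0, map_one]
  rcases D.cases hg (by
    rw [show g * F.φ tau * g⁻¹ * (g * F.φ tau * g⁻¹) = g * (F.φ tau * F.φ tau) * g⁻¹ by group, h2]
    group) with h | ⟨a, m, hm, h⟩
  · exfalso
    have ht : F.φ tau = 1 := by
      calc F.φ tau = g⁻¹ * (g * F.φ tau * g⁻¹) * g := by group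
        _ = 1 := by rw [h]; group
    exact tgt_ne 0 (F.inj (ht.trans (map_one _).symm))
  · by_cases ha : a = 0
    · subst ha
      exact ⟨m, hm, h⟩
    · refine absurd ⟨m⁻¹ * g, ?_⟩ (D.not_root ha)
      calc m⁻¹ * g * F.φ tau * (m⁻¹ * g)⁻¹ = m⁻¹ * (g * F.φ tau * g⁻¹) * m := by group
        _ = F.φ (tgt a) := by rw [← h]; group

include D in
theorem Data.rootClosed : RootClosed M (IsRootG F) :=
  RootClosed.of_fusion (fun _ hg => D.centralizer_tau (Subgroup.mem_centralizer_singleton_iff.2 hg)) D.fusion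

theorem isRootG_conj (g r : G) : IsRootG F r → IsRootG F (g * r * g⁻¹) := fun ⟨k, hk⟩ =>
  ⟨g * k, by rw [← hk]; group⟩

end Cfsg.Agent.Co2Type.End
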